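import Cfsg.Agent.Lib.SuzukiTwo.Weight

/-!
Sums of two powers of two modulo a divisor of `2 ^ n - 1` with small cofactor dividing `n`.
-/

set_option autoImplicit false

namespace Cfsg.Agent.Lib.Suzuki87

set_option synthInstance.maxSize 2000

/-- Among four exponents one may be rotated so that all of them are at most three quarters of `n`. -/
theorem exists_rotation {n a b c e : ℕ} (ha : a < n) (hb : b < n) (hc : c < n) (he : e < n) :
    ∃ s, 4 * ((a + s) % n) ≤ 3 * n ∧ 4 * ((b + s) % n) ≤ 3 * n ∧ 4 * ((c + s) % n) ≤ 3 * n ∧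
      4 * ((e + s) % n) ≤ 3 * n := by
  have key : ∀ p q, p < n → q < n →
      (p ≤ q ∧ (q + (n - p)) % n + p = q) ∨ (q < p ∧ (q + (n - p)) % n + p = q + n) := by
    intro p q hp hq
    rcases Nat.lt_or_ge q p with h | h
    · exact Or.inr ⟨h, by rw [Nat.mod_eq_of_lt (by omega)]; omega⟩
    · refine Or.inl ⟨h, ?_⟩
      rw [show q + (n - p) = q - p + n by omega, Nat.add_mod_right, Nat.mod_eq_of_lt (by omega)]
      omega
  -- sort the exponents
  obtain ⟨l, hperm, hsort⟩ : ∃ l : List ℕ, l.Perm [a, b, c, e] ∧ l.Pairwise (· ≤ ·) :=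
    ⟨List.mergeSort [a, b, c, e] (fun x y => decide (x ≤ y)), List.mergeSort_perm _ _, by
      simpa using List.pairwise_mergeSort (le := fun x y => decide (x ≤ y))
        (fun x y z h1 h2 => by simp at *; omega) (fun x y => by simp; omega) [a, b, c, e]⟩
  obtain ⟨w, x, y, z, rfl⟩ : ∃ w x y z, l = [w, x, y, z] := by
    have := hperm.length_eq
    match l, this with
    | [w, x, y, z], _ => exact ⟨w, x, y, z, rfl⟩
  have hmem : ∀ q ∈ [a, b, c, e], q = w ∨ q = x ∨ q = y ∨ q = z := fun q hq => by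
    simpa using hperm.mem_iff.mpr hq
  have hlt : ∀ q, q = w ∨ q = x ∨ q = y ∨ q = z → q < n := fun q hq => by
    have := hperm.mem_iff.mp (show q ∈ [w, x, y, z] by simpa using hq)
    simp at this; omega
  simp at hsort
  obtain ⟨p, hp, hall⟩ : ∃ p, p < n ∧ ∀ q, q = w ∨ q = x ∨ q = y ∨ q = z →
      4 * ((q + (n - p)) % n) ≤ 3 * n := by
    have hw := hlt w (by simp)
    have hz := hlt z (by simp)
    by_cases h1 : n ≤ 4 * (x - w)
    · refine ⟨x, hlt x (by simp), fun q hq => ?_⟩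
      have := key x q (hlt x (by simp)) (hlt q hq)
      omega
    by_cases h2 : n ≤ 4 * (y - x)
    · refine ⟨y, hlt y (by simp), fun q hq => ?_⟩
      have := key y q (hlt y (by simp)) (hlt q hq)
      omega
    by_cases h3 : n ≤ 4 * (z - y)
    · refine ⟨z, hlt z (by simp), fun q hq => ?_⟩
      have := key z q (hlt z (by simp)) (hlt q hq)
      omega
    · refine ⟨w, hw, fun q hq => ?_⟩
      have := key w q hw (hlt q hq)
      omega
  exact ⟨n - p, hall a (hmem a (by simp)), hall b (hmem b (by simp)), hall c (hmem c (by simp)),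
    hall e (hmem e (by simp))⟩

theorem two_pow_mod_period {n m : ℕ} (hm : m ∣ 2 ^ n - 1) (a : ℕ) :
    2 ^ a ≡ 2 ^ (a % n) [MOD m] := by
  have h1 : 2 ^ n ≡ 1 [MOD m] := ((Nat.modEq_iff_dvd' Nat.one_le_two_pow).mpr hm).symm
  calc 2 ^ a = (2 ^ n) ^ (a / n) * 2 ^ (a % n) := by
        rw [← pow_mul, ← pow_add, Nat.div_add_mod]
    _ ≡ 1 ^ (a / n) * 2 ^ (a % n) [MOD m] := (h1.pow _).mul_right _
    _ = 2 ^ (a % n) := by rw [one_pow, one_mul]

/-- The pairs of exponents agree. -/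
def SamePair (a b c e : ℕ) : Prop := (a = c ∧ b = e) ∨ (a = e ∧ b = c)

/-- The cases in which the bound on the cofactor is too weak. -/
def smallCases : List (ℕ × ℕ) :=
  [(1, 1), (2, 1), (3, 1), (4, 1), (6, 3), (12, 3), (18, 3), (18, 9), (20, 5), (21, 7)]

theorem small_or_bound : ∀ n < 24, ∀ d < 24, 0 < n → d ∣ n → d ∣ 2 ^ n - 1 →
    (n, d) ∈ smallCases ∨ d * 2 ^ (3 * n / 4 + 1) < 2 ^ n - 1 := by
  decide +kernel

theorem small_rot : ∀ p ∈ smallCases, p = (6, 3) ∨ ∀ a < p.1, ∀ b < p.1, ∀ e < p.1,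
    (2 ^ a + 2 ^ b) % ((2 ^ p.1 - 1) / p.2) = (1 + 2 ^ e) % ((2 ^ p.1 - 1) / p.2) →
      (a = 0 ∧ b = e) ∨ (a = e ∧ b = 0) := by
  decide +kernel

theorem six_pair : ∀ a < 6, ∀ b < 6, ∀ c < 6, (2 ^ a + 2 ^ b) % 21 = 2 ^ c % 21 → a = b := by
  decide +kernel

theorem six_sep : ∀ i < 6, ∀ j < 6, ∀ k < 6,
    (2 ^ k + 2 ^ j) % 21 = (1 + 2 ^ ((i + k) % 6)) % 21 → i = j := by
  decide +kernel

theorem bound_of_le {n : ℕ} (hn : 24 ≤ n) : n * 2 ^ (3 * n / 4 + 1) < 2 ^ n - 1 := by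
  have h1 : ∀ t, 6 ≤ t → 4 * t + 4 ≤ 2 ^ (t - 1) ∨ t = 6 := by
    intro t ht
    induction t, ht using Nat.le_induction with
    | base => exact Or.inr rfl
    | succ t ht ih =>
      left
      rcases ih with h | rfl
      · rw [show t + 1 - 1 = (t - 1) + 1 by omega, pow_succ]; omega
      · norm_num
  have h2 : n < 2 ^ (n - 3 * n / 4 - 1) := by
    rcases h1 (n - 3 * n / 4) (by omega) with h | h
    · calc n < 4 * (n - 3 * n / 4) + 4 := by omega
        _ ≤ _ := h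
    · rw [h]
      have : n ≤ 24 := by omega
      norm_num
      omega
  have h3 : n + 1 ≤ 2 ^ (n - 3 * n / 4 - 1) := h2
  have h4 : (n + 1) * 2 ^ (3 * n / 4 + 1) ≤ 2 ^ n := by
    calc (n + 1) * 2 ^ (3 * n / 4 + 1) ≤ 2 ^ (n - 3 * n / 4 - 1) * 2 ^ (3 * n / 4 + 1) :=
          Nat.mul_le_mul_right _ h3
      _ = 2 ^ n := by rw [← pow_add]; congr 1; omega
  have h5 : 2 ≤ 2 ^ (3 * n / 4 + 1) := by
    calc (2 : ℕ) = 2 ^ 1 := rfl
      _ ≤ _ := Nat.pow_le_pow_right (by norm_num) (by omega)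
  rw [add_mul, one_mul] at h4
  omega

theorem eq_of_modEq_of_bound {n d m a b : ℕ} (hdm : d * m = 2 ^ n - 1) {B : ℕ}
    (hB : d * B < 2 ^ n - 1) (ha : a ≤ B) (hb : b ≤ B) (h : a ≡ b [MOD m]) : a = b := by
  have hlt : B < m := Nat.lt_of_mul_lt_mul_left (hdm ▸ hB)
  exact Nat.ModEq.eq_of_lt_of_lt h (ha.trans_lt hlt) (hb.trans_lt hlt)

theorem samePair_or_six {n d m : ℕ} (hdn : d ∣ n) (hdm : d * m = 2 ^ n - 1) {a b c e : ℕ}
    (ha : a < n) (hb : b < n) (hc : c < n) (he : e < n)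
    (h : 2 ^ a + 2 ^ b ≡ 2 ^ c + 2 ^ e [MOD m]) : (n = 6 ∧ d = 3) ∨ SamePair a b c e := by
  have hn0 : 0 < n := by omega
  have hd0 : 0 < d := Nat.pos_of_dvd_of_pos hdn hn0
  have hdle : d ≤ n := Nat.le_of_dvd hn0 hdn
  have hm : m ∣ 2 ^ n - 1 := ⟨d, by rw [← hdm, mul_comm]⟩
  have hsh : ∀ s, 2 ^ ((a + s) % n) + 2 ^ ((b + s) % n) ≡
      2 ^ ((c + s) % n) + 2 ^ ((e + s) % n) [MOD m] := fun s => by
    have h1 : ∀ x y, 2 ^ ((x + s) % n) + 2 ^ ((y + s) % n) ≡ (2 ^ x + 2 ^ y) * 2 ^ s [MOD m] :=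
      fun x y => by
        rw [add_mul, ← pow_add, ← pow_add]
        exact ((two_pow_mod_period hm _).add (two_pow_mod_period hm _)).symm
    exact (h1 a b).trans ((h.mul_right _).trans (h1 c e).symm)
  have hinj : ∀ s x y, x < n → y < n → (x + s) % n = (y + s) % n → x = y := fun s x y hx hy h => by
    have := Nat.ModEq.add_right_cancel' s (show x + s ≡ y + s [MOD n] from h)
    rwa [Nat.ModEq, Nat.mod_eq_of_lt hx, Nat.mod_eq_of_lt hy] at this
  by_cases hsmall : n < 24 ∧ (n, d) ∈ smallCases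
  · rcases small_rot (n, d) hsmall.2 with h6 | hrot
    · exact Or.inl ⟨(Prod.mk.injEq ..▸ h6).1, (Prod.mk.injEq ..▸ h6).2⟩
    right
    have hme : (2 ^ n - 1) / d = m := by rw [← hdm, Nat.mul_div_cancel_left _ hd0]
    have hc0 : (c + (n - c)) % n = 0 := by rw [Nat.add_sub_of_le hc.le, Nat.mod_self]
    have h0 := hsh (n - c)
    rw [hc0, pow_zero] at h0
    have := hrot _ (Nat.mod_lt (a + (n - c)) hn0) _ (Nat.mod_lt (b + (n - c)) hn0) _
      (Nat.mod_lt (e + (n - c)) hn0) (by rw [hme]; exact h0)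
    rcases this with ⟨h1, h2⟩ | ⟨h1, h2⟩
    · exact Or.inl ⟨hinj _ a c ha hc (h1.trans hc0.symm), hinj _ b e hb he h2⟩
    · exact Or.inr ⟨hinj _ a e ha he h1, hinj _ b c hb hc (h2.trans hc0.symm)⟩
  · have hbound : d * 2 ^ (3 * n / 4 + 1) < 2 ^ n - 1 := by
      rcases Nat.lt_or_ge n 24 with hlt | hge
      · exact (small_or_bound n hlt d (by omega) hn0 hdn ⟨m, hdm.symm⟩).resolve_left
          fun hh => hsmall ⟨hlt, hh⟩
      · exact (Nat.mul_le_mul_right _ hdle).trans_lt (bound_of_le hge)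
    obtain ⟨s, h1, h2, h3, h4⟩ := exists_rotation ha hb hc he
    have hle : ∀ {x y}, 4 * x ≤ 3 * n → 4 * y ≤ 3 * n → 2 ^ x + 2 ^ y ≤ 2 ^ (3 * n / 4 + 1) :=
      fun {x y} hx hy => by
        have hx' : 2 ^ x ≤ 2 ^ (3 * n / 4) := Nat.pow_le_pow_right (by norm_num) (by omega)
        have hy' : 2 ^ y ≤ 2 ^ (3 * n / 4) := Nat.pow_le_pow_right (by norm_num) (by omega)
        rw [pow_succ]; omega
    rcases SuzukiTwo.two_pow_add_unique
        (eq_of_modEq_of_bound hdm hbound (hle h1 h2) (hle h3 h4) (hsh s)) with ⟨e1, e2⟩ | ⟨e1, e2⟩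
    · exact Or.inr (Or.inl ⟨hinj s a c ha hc e1, hinj s b e hb he e2⟩)
    · exact Or.inr (Or.inr ⟨hinj s a e ha he e1, hinj s b c hb hc e2⟩)

theorem eq_of_six {n d m : ℕ} (hdm : d * m = 2 ^ n - 1) (h6 : n = 6 ∧ d = 3) : m = 21 := by
  obtain ⟨rfl, rfl⟩ := h6
  omega

/-- Two powers of two add up to a third one only trivially. -/
theorem pair_eq_mod {n d m : ℕ} (hdn : d ∣ n) (hdm : d * m = 2 ^ n - 1) {a b c : ℕ}
    (ha : a < n) (hb : b < n) (hc : c < n) (h : 2 ^ a + 2 ^ b ≡ 2 ^ c [MOD m]) : a = b := by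
  have hn0 : 0 < n := by omega
  have hm : m ∣ 2 ^ n - 1 := ⟨d, by rw [← hdm, mul_comm]⟩
  set c' := (c + (n - 1)) % n
  have hc' : 2 ^ c' + 2 ^ c' ≡ 2 ^ c [MOD m] := by
    have h1 := ((two_pow_mod_period hm (c + (n - 1))).symm.mul_left 2).trans
      (show 2 * 2 ^ (c + (n - 1)) ≡ 2 ^ c [MOD m] by
        rw [← pow_succ', show c + (n - 1) + 1 = c + n by omega, pow_add]
        calc 2 ^ c * 2 ^ n ≡ 2 ^ c * 1 [MOD m] :=
              (((Nat.modEq_iff_dvd' Nat.one_le_two_pow).mpr hm).symm).mul_left _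
          _ = 2 ^ c := mul_one _)
    rwa [two_mul] at h1
  rcases samePair_or_six hdn hdm ha hb (Nat.mod_lt _ hn0) (Nat.mod_lt _ hn0) (h.trans hc'.symm) with
    h6 | ⟨h1, h2⟩ | ⟨h1, h2⟩
  · have hm21 := eq_of_six hdm h6
    obtain ⟨rfl, rfl⟩ := h6
    subst hm21
    exact six_pair a ha b hb c hc h
  · rw [h1, h2]
  · rw [h1, h2]

/-- The weights `1 - 2 ^ i` are separated. -/
theorem sep_mod {n d m : ℕ} (hdn : d ∣ n) (hdm : d * m = 2 ^ n - 1) {i j k : ℕ}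
    (hi : i < n) (hj : j < n) (hk : k < n) (h : 2 ^ k + 2 ^ j ≡ 1 + 2 ^ (i + k) [MOD m]) : i = j := by
  have hn0 : 0 < n := by omega
  have hm : m ∣ 2 ^ n - 1 := ⟨d, by rw [← hdm, mul_comm]⟩
  have h' : 2 ^ k + 2 ^ j ≡ 2 ^ 0 + 2 ^ ((i + k) % n) [MOD m] := by
    rw [pow_zero]; exact h.trans ((two_pow_mod_period hm _).add_left 1)
  rcases samePair_or_six hdn hdm hk hj hn0 (Nat.mod_lt _ hn0) h' with h6 | ⟨h1, h2⟩ | ⟨h1, h2⟩
  · have hm21 := eq_of_six hdm h6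
    obtain ⟨rfl, rfl⟩ := h6
    subst hm21
    exact six_sep i hi j hj k hk h'
  · subst h1
    rw [h2, add_zero, Nat.mod_eq_of_lt hi]
  · subst h2
    have h3 : i + k ≡ 0 + k [MOD n] := by
      rw [zero_add, Nat.ModEq, Nat.mod_eq_of_lt hk]; exact h1.symm
    have := h3.add_right_cancel' k
    rwa [Nat.ModEq, Nat.mod_eq_of_lt hi, Nat.zero_mod] at this

end Cfsg.Agent.Lib.Suzuki87
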