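import Cfsg.Agent.Lib.Suzuki87.Field
import Cfsg.Agent.Lib.SuzukiTwo.Exponent

/-!
Two-groups with an automorphism acting on the central involutions as multiplication by an element
with separated weights in a field.
-/

set_option autoImplicit false
set_option linter.unusedSectionVars false

open scoped commutatorElement

namespace Cfsg.Agent.Lib.Suzuki87

open Cfsg.Agent.Lib.SuzukiTwo (Inv HasExp exists_hasExp inv_center exists_layer exists_layer_max sq_mul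
  mem_of_fixed_coset)

variable {P : Type*} [Group P]

/-- The involutions are central and `k` multiplies them by an element with separated weights. -/
structure IsIrrGen (k : MulAut P) : Prop where
  central : ∀ x : P, x * x = 1 → x ∈ Subgroup.center P
  field : ∀ z : P, z ≠ 1 → z * z = 1 →
    ∃ (F : Type) (_ : Field F) (_ : Fintype F) (_ : CharP F 2) (l : F) (e : F → P),
      IsSep l ∧ Function.Injective e ∧ (∀ x y, e (x + y) = e x * e y) ∧ e 1 = z ∧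
        (∀ v : P, v * v = 1 ↔ ∃ x, e x = v) ∧ ∀ x, e (l * x) = k (e x)

variable [Finite P] {k : MulAut P}

/-- An equivariant homomorphism to the involutions which is not trivial is surjective. -/
theorem IsIrrGen.exists_preimage (hk : IsIrrGen k) {A : Subgroup P} (hA : Inv k A) (φ : P → P)
    (hφ : ∀ a ∈ A, ∀ b ∈ A, φ (a * b) = φ a * φ b) (hφk : ∀ a ∈ A, φ (k a) = k (φ a))
    (hφ2 : ∀ a ∈ A, φ a * φ a = 1) (hne : ∃ a ∈ A, φ a ≠ 1) {v : P} (hv : v * v = 1) :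
    ∃ a ∈ A, φ a = v := by
  obtain ⟨a0, ha0, hne0⟩ := hne
  obtain ⟨F, iF, iFin, iC, l, e, hl, hinj, hadd, h1, hrange, hmul⟩ := hk.field _ hne0 (hφ2 a0 ha0)
  have he0 : e 0 = 1 := by
    have h := hadd 0 0
    rw [add_zero] at h
    exact mul_eq_right.mp h.symm
  have hφ1 : φ 1 = 1 := by
    have h := hφ 1 (one_mem A) 1 (one_mem A)
    rw [mul_one] at h
    exact mul_eq_right.mp h.symm
  let W : AddSubgroup F :=
    { carrier := {u | ∃ a ∈ A, φ a = e u}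
      add_mem' := fun {u u'} ⟨a, ha, hu⟩ ⟨a', ha', hu'⟩ =>
        ⟨a * a', mul_mem ha ha', by rw [hφ a ha a' ha', hu, hu', hadd]⟩
      zero_mem' := ⟨1, one_mem A, by rw [hφ1, he0]⟩
      neg_mem' := fun {u} hu => by rw [CharTwo.neg_eq]; exact hu }
  have htop : W = ⊤ := hl.span W
    (fun u ⟨a, ha, hu⟩ => ⟨k a, hA a ha, by rw [hφk a ha, hu, hmul]⟩)
    ⟨1, ⟨a0, ha0, h1.symm⟩, one_ne_zero⟩
  obtain ⟨u, rfl⟩ := (hrange v).mp hv
  exact (htop ▸ AddSubgroup.mem_top u : u ∈ W)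

theorem IsIrrGen.fixed_all (hk : IsIrrGen k) {i : ℕ} {z : P} (hz : z ≠ 1) (hz2 : z * z = 1)
    (h : (k ^ i) z = z) {v : P} (hv : v * v = 1) : (k ^ i) v = v := by
  obtain ⟨F, iF, iFin, iC, l, e, hl, hinj, -, h1, hrange, hmul⟩ := hk.field z hz hz2
  have hp : ∀ j u, e (l ^ j * u) = (k ^ j) (e u) := by
    intro j u
    induction j with
    | zero => simp
    | succ j ih => rw [pow_succ', mul_assoc, hmul, ih, pow_succ', MulAut.mul_apply]
  have hl1 : l ^ i = 1 := hinj (by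
    have := hp i 1
    rwa [mul_one, h1, h, ← h1] at this)
  obtain ⟨u, rfl⟩ := (hrange v).mp hv
  rw [← hp, hl1, one_mul]

theorem fpf_of_moves (hk : IsIrrGen k) (h2 : IsPGroup 2 P) {i : ℕ} {v : P} (hv : v * v = 1)
    (hne : (k ^ i) v ≠ v) {y : P} (hy : (k ^ i) y = y) : y = 1 := by
  by_contra hy1
  obtain ⟨n, hn⟩ := IsPGroup.iff_orderOf.mp h2 y
  have hn0 : n ≠ 0 := fun h => hy1 (orderOf_eq_one_iff.mp (by rw [hn, h]; rfl))
  set z := y ^ (orderOf y / 2) with hz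
  have hzo : orderOf z = 2 :=
    orderOf_pow_orderOf_div (orderOf_pos y).ne' (hn ▸ dvd_pow_self 2 hn0)
  exact hne (hk.fixed_all (z := z) (fun h => by rw [h, orderOf_one] at hzo; omega)
    (by rw [← pow_two, ← hzo, pow_orderOf_eq_one]) (by rw [hz, map_pow, hy]) hv)

theorem fixedPointFree (hk : IsIrrGen k) (h2 : IsPGroup 2 P)
    {z : P} (hz : z ≠ 1) (hz2 : z * z = 1) {x : P} (hx : k x = x) : x = 1 := by
  obtain ⟨F, iF, iFin, iC, l, e, hl, hinj, -, h1, -, hmul⟩ := hk.field z hz hz2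
  refine fpf_of_moves hk h2 (i := 1) hz2 (fun h => hl.ne_one (hinj ?_)) (by rw [pow_one]; exact hx)
  have := hmul 1
  rwa [mul_one, h1, ← pow_one k, h, ← h1] at this

theorem involution_central (hk : IsIrrGen k) (_h2 : IsPGroup 2 P) {x : P} (hx : x * x = 1) :
    x ∈ Subgroup.center P := hk.central x hx

theorem exists_root (hk : IsIrrGen k) {A : Subgroup P} (hA : Inv k A)
    (hc : ∀ x ∈ A, ∀ y ∈ A, x * y = y * x) {f : ℕ} (hf : HasExp A f)
    {v : P} (hv : v * v = 1) : ∃ b ∈ A, b ^ 2 ^ f = v :=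
  hk.exists_preimage hA (fun a => a ^ 2 ^ f)
    (fun a ha b hb => (show Commute a b from hc a ha b hb).mul_pow _) (fun a _ => by rw [map_pow])
    (fun a ha => by rw [← pow_two, ← pow_mul, ← pow_succ, hf.1 a ha]) hf.2 hv

/-- An element of the right order in a homocyclic subgroup is a square. -/
theorem exists_sqrt (hk : IsIrrGen k) {A : Subgroup P} (hA : Inv k A)
    (hc : ∀ x ∈ A, ∀ y ∈ A, x * y = y * x) {f : ℕ} (hf : HasExp A f) :
    ∀ (i : ℕ) (a : P), a ∈ A → i ≤ f → a ^ 2 ^ i = 1 → ∃ b ∈ A, b * b = a := by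
  intro i
  induction i with
  | zero =>
    intro a ha _ h
    exact ⟨1, one_mem A, by rw [pow_zero, pow_one] at h; rw [h, mul_one]⟩
  | succ i ih =>
    intro a ha hi h
    have hv : a ^ 2 ^ i * a ^ 2 ^ i = 1 := by rw [← pow_two, ← pow_mul, ← pow_succ, h]
    obtain ⟨b, hb, hbv⟩ := exists_root hk hA hc hf hv
    set d := b ^ 2 ^ (f - i - 1) with hd
    have hdA : d ∈ A := pow_mem hb _
    have hcd : (d * d) ^ 2 ^ i = a ^ 2 ^ i := by
      rw [← pow_two, ← pow_mul, hd, ← pow_mul, ← pow_succ', ← pow_add, ← hbv]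
      congr 2; omega
    have hcomm : Commute a (d * d)⁻¹ := hc a ha _ (inv_mem (mul_mem hdA hdA))
    obtain ⟨c, hcA, hcc⟩ := ih (a * (d * d)⁻¹) (mul_mem ha (inv_mem (mul_mem hdA hdA))) (by omega)
      (by rw [hcomm.mul_pow, inv_pow, hcd, mul_inv_cancel])
    refine ⟨c * d, mul_mem hcA hdA, ?_⟩
    calc c * d * (c * d) = c * (d * c) * d := by group
      _ = c * c * (d * d) := by rw [hc d hdA c hcA]; group
      _ = a := by rw [hcc, inv_mul_cancel_right]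

theorem sq_mul {x y : P} : x * y * (x * y) = x * x * ⁅x⁻¹, y⁆ * (y * y) := by
  rw [commutatorElement_def]; group

/-- An extension of an abelian invariant subgroup of exponent at least `4` with elementary quotient
and commutators inside is abelian. -/
theorem commute_of_extend (hk : IsIrrGen k) (h2 : IsPGroup 2 P) {A W : Subgroup P} (hA : Inv k A)
    (hc : ∀ x ∈ A, ∀ y ∈ A, x * y = y * x) (hV : ∀ x : P, x * x = 1 → x ∈ A) {f : ℕ}
    (hf : HasExp A f) (hf1 : 1 ≤ f) (hW : Inv k W) (hAW : A ≤ W)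
    (hcen : ∀ x ∈ W, ∀ a ∈ A, x * a = a * x) (hsq : ∀ x ∈ W, x * x ∈ A)
    (hcm : ∀ x ∈ W, ∀ y ∈ W, ⁅x, y⁆ ∈ A) : ∀ x ∈ W, ∀ y ∈ W, x * y = y * x := by
  classical
  have hinv2 : ∀ x ∈ W, ∀ y ∈ W, ⁅x, y⁆ * ⁅x, y⁆ = 1 := by
    intro x hx y hy
    set c := ⁅x, y⁆ with hcdef
    have h1 : x * y * x⁻¹ = c * y := by rw [hcdef, commutatorElement_def]; group
    have h3 : x * (y * y) * x⁻¹ = c * c * (y * y) := by
      calc x * (y * y) * x⁻¹ = (x * y * x⁻¹) * (x * y * x⁻¹) := by group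
        _ = c * (y * c) * y := by rw [h1]; group
        _ = c * c * (y * y) := by rw [hcen y hy c (hcm x hx y hy)]; group
    rw [hcen x hx _ (hsq y hy), mul_inv_cancel_right] at h3
    exact mul_eq_right.mp h3.symm
  have hΦ : ∀ x ∈ W, ∀ y ∈ W, (x * y) ^ 2 ^ (f + 1) = x ^ 2 ^ (f + 1) * y ^ 2 ^ (f + 1) := by
    intro x hx y hy
    have e : ∀ z : P, z ^ 2 ^ (f + 1) = (z * z) ^ 2 ^ f := fun z => by
      rw [pow_succ', pow_mul, pow_two]
    have hcA := hcm x⁻¹ (inv_mem hx) y hy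
    have c1 : Commute (x * x) ⁅x⁻¹, y⁆ := hc _ (hsq x hx) _ hcA
    have c2 : Commute (x * x * ⁅x⁻¹, y⁆) (y * y) := hc _ (mul_mem (hsq x hx) hcA) _ (hsq y hy)
    have hcf : ⁅x⁻¹, y⁆ ^ 2 ^ f = 1 := by
      obtain ⟨g, rfl⟩ : ∃ g, f = g + 1 := ⟨f - 1, by omega⟩
      rw [pow_succ', pow_mul, pow_two, hinv2 x⁻¹ (inv_mem hx) y hy, one_pow]
    rw [e, e, e, sq_mul, c2.mul_pow, c1.mul_pow, hcf, mul_one]
  have hker : ∀ x ∈ W, x ^ 2 ^ (f + 1) = 1 → x ∈ A := by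
    intro x hx h
    obtain ⟨b, hb, hbb⟩ := exists_sqrt hk hA hc hf f (x * x) (hsq x hx) le_rfl
      (by rw [← pow_two, ← pow_mul, ← pow_succ', h])
    have h1 : x * b⁻¹ * (x * b⁻¹) = 1 := by
      calc x * b⁻¹ * (x * b⁻¹) = x * (b⁻¹ * x) * b⁻¹ := by group
        _ = x * x * (b * b)⁻¹ := by rw [← hcen x hx b⁻¹ (inv_mem hb)]; group
        _ = 1 := by rw [hbb, mul_inv_cancel]
    have := mul_mem (hV _ h1) hb
    rwa [inv_mul_cancel_right] at this
  have hV' : ∀ x ∈ W, x ^ 2 ^ (f + 1) * x ^ 2 ^ (f + 1) = 1 := fun x hx => by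
    have := hf.1 _ (hsq x hx)
    rw [← pow_two, ← pow_mul, ← pow_succ'] at this
    rwa [← pow_two, ← pow_mul, ← pow_succ]
  intro x hx y hy
  by_cases hWA : ∀ w ∈ W, w ∈ A
  · exact hc x (hWA x hx) y (hWA y hy)
  push Not at hWA
  obtain ⟨w, hw, hwA⟩ := hWA
  set z := w ^ 2 ^ (f + 1) with hz
  have hz1 : z ≠ 1 := fun h => hwA (hker w hw h)
  have hz2 : z * z = 1 := hV' w hw
  obtain ⟨F, iF, iFin, iC, l, e, hl, hinj, hadd, -, hrange, hmul⟩ := hk.field z hz1 hz2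
  have hlift : ∀ u : F, ∃ r ∈ W, r ^ 2 ^ (f + 1) = e u := fun u =>
    hk.exists_preimage hW (fun r => r ^ 2 ^ (f + 1)) hΦ (fun a _ => by rw [map_pow]) hV'
      ⟨w, hw, hz1⟩ ((hrange _).mpr ⟨u, rfl⟩)
  choose L hLW hLe using hlift
  have hcongr : ∀ a ∈ W, ∀ a' ∈ W, a ^ 2 ^ (f + 1) = a' ^ 2 ^ (f + 1) → ∀ b ∈ W,
      ⁅a, b⁆ = ⁅a', b⁆ ∧ ⁅b, a⁆ = ⁅b, a'⁆ := by
    intro a ha a' ha' h b hb
    have h1 : a⁻¹ * a' ∈ A := hker _ (mul_mem (inv_mem ha) ha') (by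
      rw [hΦ _ (inv_mem ha) _ ha', inv_pow, h, inv_mul_cancel])
    set d := a⁻¹ * a'
    have hd : a' = a * d := by simp [d]
    rw [hd]
    have hdb : d * b = b * d := (hcen b hb d h1).symm
    constructor
    · rw [commutatorElement_def, commutatorElement_def]
      calc a * b * a⁻¹ * b⁻¹ = a * b * d * d⁻¹ * a⁻¹ * b⁻¹ := by group
        _ = a * d * b * (a * d)⁻¹ * b⁻¹ := by rw [mul_assoc a b d, ← hdb]; group
    · rw [commutatorElement_def, commutatorElement_def]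
      calc b * a * b⁻¹ * a⁻¹ = b * a * (b⁻¹ * d) * d⁻¹ * a⁻¹ := by group
        _ = b * (a * d) * b⁻¹ * (a * d)⁻¹ := by
          rw [show b⁻¹ * d = d * b⁻¹ from hcen b⁻¹ (inv_mem hb) d h1]; group
  have hex : ∀ u v : F, ∃ r : F, e r = ⁅L u, L v⁆ := fun u v =>
    (hrange _).mp (hinv2 _ (hLW u) _ (hLW v))
  choose Bf hBf using hex
  have hmulL : ∀ a ∈ W, ∀ a' ∈ W, ∀ b ∈ W, ⁅a * a', b⁆ = ⁅a, b⁆ * ⁅a', b⁆ := by
    intro a ha a' ha' b hb
    rw [show ⁅a * a', b⁆ = a * ⁅a', b⁆ * a⁻¹ * ⁅a, b⁆ by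
      simp only [commutatorElement_def]; group, hcen a ha _ (hcm a' ha' b hb),
      mul_inv_cancel_right, hc _ (hcm a ha b hb) _ (hcm a' ha' b hb)]
  have hmulR : ∀ a ∈ W, ∀ b ∈ W, ∀ b' ∈ W, ⁅a, b * b'⁆ = ⁅a, b⁆ * ⁅a, b'⁆ := by
    intro a ha b hb b' hb'
    rw [show ⁅a, b * b'⁆ = ⁅a, b⁆ * (b * ⁅a, b'⁆ * b⁻¹) by
      simp only [commutatorElement_def]; group, hcen b hb _ (hcm a ha b' hb'), mul_inv_cancel_right]
  have hL : ∀ u v, L (u + v) ^ 2 ^ (f + 1) = (L u * L v) ^ 2 ^ (f + 1) := fun u v => by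
    rw [hLe, hΦ _ (hLW u) _ (hLW v), hLe, hLe, hadd]
  have hBl : ∀ u u' v, Bf (u + u') v = Bf u v + Bf u' v := fun u u' v => hinj (by
    rw [hadd, hBf, hBf, hBf, (hcongr _ (hLW _) _ (mul_mem (hLW u) (hLW u')) (hL u u') _ (hLW v)).1,
      hmulL _ (hLW u) _ (hLW u') _ (hLW v)])
  have hBr : ∀ u v v', Bf u (v + v') = Bf u v + Bf u v' := fun u v v' => hinj (by
    rw [hadd, hBf, hBf, hBf, (hcongr _ (hLW _) _ (mul_mem (hLW v) (hLW v')) (hL v v') _ (hLW u)).2,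
      hmulR _ (hLW u) _ (hLW v) _ (hLW v')])
  let B : F →+ F →+ F := AddMonoidHom.mk' (fun u => AddMonoidHom.mk' (Bf u) (hBr u))
    fun u u' => AddMonoidHom.ext fun v => hBl u u' v
  have he0 : e 0 = 1 := by
    have := hadd 0 0
    rw [add_zero] at this
    exact mul_eq_right.mp this.symm
  have hB0 := hl.alternating_eq_zero B (fun u => hinj (by
      show e (Bf u u) = _
      rw [hBf, he0, commutatorElement_self]))
    (fun u v => hinj (by
      show e (Bf (l * u) (l * v)) = e (l * Bf u v)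
      rw [hmul, hBf, hBf, map_commutatorElement]
      have hk' : ∀ u, L (l * u) ^ 2 ^ (f + 1) = (k (L u)) ^ 2 ^ (f + 1) := fun u => by
        rw [hLe, hmul, ← map_pow, hLe]
      rw [(hcongr _ (hLW _) _ (hW _ (hLW u)) (hk' u) _ (hLW _)).1,
        (hcongr _ (hLW _) _ (hW _ (hLW v)) (hk' v) _ (hW _ (hLW u))).2]))
  obtain ⟨u, hu⟩ := (hrange _).mp (hV' x hx)
  obtain ⟨v, hv⟩ := (hrange _).mp (hV' y hy)
  rw [← commutatorElement_eq_one_iff_mul_comm,
    (hcongr x hx _ (hLW u) (by rw [hLe, hu]) y hy).1,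
    (hcongr y hy _ (hLW v) (by rw [hLe, hv]) _ (hLW u)).2, ← hBf, show Bf u v = 0 from hB0 u v, he0]

end Cfsg.Agent.Lib.Suzuki87
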