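import Cfsg.Agent.Lib.Suzuki87.Basic

/-!
The centre is elementary abelian.
-/

set_option autoImplicit false
set_option linter.unusedSectionVars false
set_option maxHeartbeats 400000

open scoped commutatorElement

namespace Cfsg.Agent.Lib.Suzuki87

open Cfsg.Agent.Lib.SuzukiTwo (Inv Good HasExp exists_hasExp inv_center inv_centralizer exists_layer disp)

variable {P : Type*} [Group P] [Finite P] {k : MulAut P}

/-- An abelian invariant subgroup of exponent at most that of the centre is central. -/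
theorem mem_center_of_pow (hk : IsIrrGen k) (h2 : IsPGroup 2 P) {A : Subgroup P}
    (hc : ∀ x ∈ A, ∀ y ∈ A, x * y = y * x) (hZA : Subgroup.center P ≤ A) {e : ℕ}
    (he : HasExp (Subgroup.center P) e) :
    ∀ (i : ℕ) (a : P), a ∈ A → i ≤ e + 1 → a ^ 2 ^ i = 1 → a ∈ Subgroup.center P := by
  intro i
  induction i with
  | zero => intro a _ _ h; rw [pow_zero, pow_one] at h; rw [h]; exact one_mem _
  | succ i ih =>
    intro a ha hi h
    have hv : a ^ 2 ^ i * a ^ 2 ^ i = 1 := by rw [← pow_two, ← pow_mul, ← pow_succ, h]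
    obtain ⟨b, hb, hbv⟩ := exists_root hk inv_center (fun x hx y _ => (Subgroup.mem_center_iff.mp hx y).symm) he hv
    set d := b ^ 2 ^ (e - i) with hd
    have hdZ : d ∈ Subgroup.center P := pow_mem hb _
    have hdi : d ^ 2 ^ i = a ^ 2 ^ i := by
      rw [hd, ← pow_mul, ← pow_add, Nat.sub_add_cancel (by omega), hbv]
    have hcomm : Commute a d⁻¹ := hc a ha _ (hZA (inv_mem hdZ))
    have := ih (a * d⁻¹) (mul_mem ha (hZA (inv_mem hdZ))) (by omega)
      (by rw [hcomm.mul_pow, inv_pow, hdi, mul_inv_cancel])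
    have := mul_mem this hdZ
    rwa [inv_mul_cancel_right] at this

theorem center_elementary_aux (hk : IsIrrGen k) (h2 : IsPGroup 2 P)
    (hna : ∃ x y : P, x * y ≠ y * x) {e : ℕ} (he : HasExp (Subgroup.center P) e) (he1 : 1 ≤ e) :
    False := by
  classical
  obtain ⟨a0, b0, hab0⟩ := hna
  have hV : ∀ x : P, x * x = 1 → x ∈ Subgroup.center P := fun x => involution_central hk h2
  have hVc : ∀ x y : P, x * x = 1 → x * y = y * x := fun x y hx =>
    (Subgroup.mem_center_iff.mp (hV x hx) y).symm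
  have hZgood : Good k (Subgroup.center P) :=
    ⟨le_rfl, fun x hx y _ => (Subgroup.mem_center_iff.mp hx y).symm, inferInstance, inv_center⟩
  obtain ⟨A, hA, hmax⟩ := Finset.exists_max_image
    ((Set.toFinite {A : Subgroup P | Good k A}).toFinset)
    (fun A => Nat.card A) ⟨Subgroup.center P, by simpa using hZgood⟩
  simp only [Set.Finite.mem_toFinset, Set.mem_setOf_eq] at hA hmax
  obtain ⟨hZA, hcA, hAn, hAinv⟩ := hA
  haveI := hAn
  have hZne : Subgroup.center P ≠ ⊥ := fun h => by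
    obtain ⟨a, ha, h1⟩ := he.2
    rw [h, Subgroup.mem_bot] at ha
    exact h1 (by rw [ha, one_pow])
  have hgrow : ∀ B : Subgroup P, Good k B → ∀ C : Subgroup P, C.Normal → Inv k C →
      B < C → (∀ x ∈ C, ∀ a ∈ B, x * a = a * x) → ∀ g, HasExp B g → 1 ≤ g →
      ∃ M, Good k M ∧ B < M := by
    intro B hB C hCn hCinv hBC hcen g hg hg1
    haveI := hB.2.2.1
    haveI := hCn
    obtain ⟨M, hBM, hMC, hMn, hMinv, hM⟩ := exists_layer h2 hB.2.2.2 hCinv hBC
    exact ⟨M, ⟨hB.1.trans hBM.le, commute_of_extend hk h2 hB.2.2.2 hB.2.1 (fun x hx => hB.1 (hV x hx))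
      hg hg1 hMinv hBM.le (fun x hx => hcen x (hMC hx)) (fun x hx => (hM x hx).1)
      (fun x hx y _ => (hM x hx).2 y), hMn, hMinv⟩, hBM⟩
  have hcard : ∀ B M : Subgroup P, B < M → Nat.card B < Nat.card M := fun B M h => by
    refine lt_of_le_of_ne (Subgroup.card_le_of_le h.le) fun heq => h.ne ?_
    exact Subgroup.eq_of_le_of_card_ge h.le heq.ge
  have hAne : A ≠ Subgroup.center P := by
    intro hAZ
    have htop : Subgroup.center P < ⊤ := lt_top_iff_ne_top.mpr fun h =>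
      hab0 (Subgroup.mem_center_iff.mp (h ▸ Subgroup.mem_top b0 : b0 ∈ Subgroup.center P) a0)
    obtain ⟨M, hM, hlt⟩ := hgrow _ hZgood ⊤ inferInstance (fun x _ => Subgroup.mem_top _) htop
      (fun x _ a ha => Subgroup.mem_center_iff.mp ha x) e he he1
    exact absurd (hmax M hM) (by rw [hAZ]; exact not_le.mpr (hcard _ _ hlt))
  obtain ⟨f, hf⟩ := exists_hasExp h2 (fun h => hZne (eq_bot_iff.mpr (h ▸ hZA)))
  have hef : e + 1 ≤ f := by
    by_contra hlt
    refine hAne (le_antisymm (fun a ha => ?_) hZA)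
    exact mem_center_of_pow hk h2 hcA hZA he (f + 1) a ha (by omega) (hf.1 a ha)
  have hCA : Subgroup.centralizer (A : Set P) = A := by
    have hle : A ≤ Subgroup.centralizer (A : Set P) := fun x hx =>
      Subgroup.mem_centralizer_iff.mpr fun a ha => hcA a ha x hx
    by_contra hne
    obtain ⟨M, hM, hlt⟩ := hgrow A ⟨hZA, hcA, hAn, hAinv⟩ (Subgroup.centralizer (A : Set P))
      inferInstance (inv_centralizer hAinv) (lt_of_le_of_ne hle (Ne.symm hne))
      (fun x hx a ha => (Subgroup.mem_centralizer_iff.mp hx a ha).symm) f hf (by omega)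
    exact absurd (hmax M hM) (not_le.mpr (hcard _ _ hlt))
  have hAtop : A < ⊤ := lt_top_iff_ne_top.mpr fun h =>
    hab0 (hcA a0 (h ▸ Subgroup.mem_top a0) b0 (h ▸ Subgroup.mem_top b0))
  obtain ⟨U, hAU, -, -, hUinv, hU⟩ :=
    exists_layer h2 (C := ⊤) hAinv (fun x _ => Subgroup.mem_top _) hAtop
  set δ : P → P → P := fun p a => p * a * p⁻¹ * a⁻¹ with hδ
  have hδA : ∀ p, ∀ a ∈ A, δ p a ∈ A := fun p a ha =>
    mul_mem (hAn.conj_mem a ha p) (inv_mem ha)
  have hδmul : ∀ p, ∀ a ∈ A, ∀ b ∈ A, δ p (a * b) = δ p a * δ p b := by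
    intro p a ha b hb
    calc δ p (a * b) = p * a * p⁻¹ * (δ p b * a⁻¹) := by simp only [hδ]; group
      _ = p * a * p⁻¹ * (a⁻¹ * δ p b) := by rw [hcA _ (hδA p b hb) _ (inv_mem ha)]
      _ = δ p a * δ p b := by simp only [hδ]; group
  have hδpow : ∀ p, ∀ a ∈ A, ∀ m : ℕ, δ p (a ^ m) = δ p a ^ m := by
    intro p a ha m
    induction m with
    | zero => simp [hδ]
    | succ m ih => rw [pow_succ, hδmul p _ (pow_mem ha m) _ ha, ih, pow_succ]
  have hδZ : ∀ p, ∀ a ∈ Subgroup.center P, δ p a = 1 := fun p a ha => by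
    simp only [hδ]; rw [Subgroup.mem_center_iff.mp ha p]; group
  have hδ4 : ∀ p, ∀ a ∈ A, ∀ i : ℕ, a ^ 2 ^ (i + 2) = 1 → δ p a ^ 2 ^ i = 1 := by
    intro p a ha i h
    rw [← hδpow p a ha]
    refine hδZ p _ (mem_center_of_pow hk h2 hcA hZA he 2 _ (pow_mem ha _) (by omega) ?_)
    rw [← pow_mul, ← pow_add, h]
  have hδsq : ∀ p ∈ U, ∀ a ∈ A, δ p a * δ p a = 1 := by
    intro p hp a ha
    obtain ⟨b, hb, hbb⟩ := exists_sqrt hk hAinv hcA hf (f - 1) (δ p a) (hδA p a ha) (by omega)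
      (hδ4 p a ha (f - 1) (by rw [show f - 1 + 2 = f + 1 by omega]; exact hf.1 a ha))
    obtain ⟨c, hc, hcc⟩ := exists_sqrt hk hAinv hcA hf f b hb le_rfl (by
      obtain ⟨g, hg⟩ : ∃ g, f = g + 1 := ⟨f - 1, by omega⟩
      rw [hg, pow_succ', pow_mul, pow_two, hbb]
      have := hδ4 p a ha g (by rw [show g + 2 = f + 1 by omega]; exact hf.1 a ha)
      exact this)
    have h4 : δ p a = c ^ 4 := by rw [← hbb, ← hcc]; simp only [pow_succ, pow_zero, one_mul, mul_assoc]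
    have hflip : δ p (δ p a) = (δ p a * δ p a)⁻¹ := by
      have hpp : p * p * a * (p * p)⁻¹ = a := by rw [hcA _ (hU p hp).1 a ha]; group
      calc δ p (δ p a) = (p * (p * a * p⁻¹) * p⁻¹) * (p * a * p⁻¹)⁻¹ * (δ p a)⁻¹ := by
            simp only [hδ]; group
        _ = a * (p * a * p⁻¹)⁻¹ * (δ p a)⁻¹ := by
            rw [show p * (p * a * p⁻¹) * p⁻¹ = p * p * a * (p * p)⁻¹ by group, hpp]
        _ = _ := by simp only [hδ]; group
    have h8 : (δ p c) ^ 4 = (c ^ 8)⁻¹ := by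
      rw [← hδpow p c hc, ← h4, hflip, h4]; group
    have hdesc : ∀ m : ℕ, c ^ 2 ^ (3 + m) = 1 → c ^ 8 = 1 := by
      intro m
      induction m with
      | zero => intro h; simpa using h
      | succ m ih =>
        intro h
        refine ih ?_
        have h1 := hδ4 p c hc (2 + m) (by rw [show 2 + m + 2 = 3 + (m + 1) by omega]; exact h)
        rw [show 2 ^ (2 + m) = 4 * 2 ^ m by rw [pow_add]; norm_num, pow_mul, h8, inv_pow, ← pow_mul,
          inv_eq_one] at h1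
        rw [show 2 ^ (3 + m) = 8 * 2 ^ m by rw [pow_add]; norm_num]
        exact h1
    rw [h4, ← pow_add]
    refine hdesc f ?_
    rw [show 3 + f = f + 1 + 2 by omega, pow_add, pow_mul, hf.1 c hc, one_pow]
  have hker : ∀ a ∈ A, a ^ 2 ^ f = 1 → ∀ p ∈ U, δ p a = 1 := by
    intro a ha h p hp
    obtain ⟨b, hb, rfl⟩ := exists_sqrt hk hAinv hcA hf f a ha le_rfl h
    rw [hδmul p b hb b hb, hδsq p hp b hb]
  obtain ⟨a1, ha1, ha1ne⟩ := hf.2
  have ha11 : a1 ^ 2 ^ f * a1 ^ 2 ^ f = 1 := by rw [← pow_two, ← pow_mul, ← pow_succ, hf.1 a1 ha1]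
  obtain ⟨F, iF, iFin, iC, l, ε, hl, hinj, hadd, -, hrange, hmul⟩ :=
    hk.field _ ha1ne ha11
  have hlift : ∀ u : F, ∃ r ∈ A, r ^ 2 ^ f = ε u := fun u =>
    exists_root hk hAinv hcA hf ((hrange _).mpr ⟨u, rfl⟩)
  choose L hLA hLe using hlift
  have hε0 : ε 0 = 1 := by
    have := hadd 0 0
    rw [add_zero] at this
    exact mul_eq_right.mp this.symm
  have hD : ∀ (p : P) (u : F), ∃ r : F, p ∈ U → ε r = δ p (L u) := by
    intro p u
    by_cases hp : p ∈ U
    · obtain ⟨r, hr⟩ := (hrange _).mp (hδsq p hp _ (hLA u))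
      exact ⟨r, fun _ => hr⟩
    · exact ⟨0, fun h => absurd h hp⟩
  choose Df hDf using hD
  have hcongr : ∀ p ∈ U, ∀ a ∈ A, ∀ a' ∈ A, a ^ 2 ^ f = a' ^ 2 ^ f → δ p a = δ p a' := by
    intro p hp a ha a' ha' h
    have h1 : δ p (a' * a⁻¹) = 1 := hker _ (mul_mem ha' (inv_mem ha))
      (by rw [(show Commute a' a⁻¹ from hcA _ ha' _ (inv_mem ha)).mul_pow, inv_pow, h, mul_inv_cancel]) p hp
    calc δ p a = δ p (a' * a⁻¹) * δ p a := by rw [h1, one_mul]
      _ = δ p a' := by rw [← hδmul p _ (mul_mem ha' (inv_mem ha)) _ ha, inv_mul_cancel_right]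
  have hDadd : ∀ p ∈ U, ∀ u v : F, Df p (u + v) = Df p u + Df p v := fun p hp u v => hinj (by
    rw [hadd, hDf _ _ hp, hDf _ _ hp, hDf _ _ hp, ← hδmul p _ (hLA u) _ (hLA v)]
    refine hcongr p hp _ (hLA _) _ (mul_mem (hLA u) (hLA v)) ?_
    rw [(show Commute (L u) (L v) from hcA _ (hLA u) _ (hLA v)).mul_pow, hLe, hLe, hLe, hadd])
  have hDp : ∀ p ∈ U, ∀ p' ∈ U, ∀ u : F, Df (p * p') u = Df p u + Df p' u := fun p hp p' hp' u =>
    hinj (by
      rw [hadd, hDf _ _ (mul_mem hp hp'), hDf _ _ hp, hDf _ _ hp']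
      set d := δ p' (L u) with hd
      have hd2 : d * d = 1 := hδsq p' hp' _ (hLA u)
      calc δ (p * p') (L u) = p * d * p⁻¹ * (p * L u * p⁻¹ * (L u)⁻¹) := by
            simp only [hd, hδ]; group
        _ = d * δ p (L u) := by rw [← hVc d p hd2, mul_inv_cancel_right]
        _ = δ p (L u) * d := hVc _ _ hd2)
  let S : AddSubgroup (F →+ F) :=
    { carrier := {D | ∃ p ∈ U, ∀ u, D u = Df p u}
      add_mem' := fun {D E} ⟨p, hp, hD⟩ ⟨p', hp', hE⟩ =>
        ⟨p * p', mul_mem hp hp', fun u => by rw [AddMonoidHom.add_apply, hD, hE, hDp p hp p' hp']⟩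
      zero_mem' := ⟨1, one_mem U, fun u => hinj (by
        rw [hDf _ _ (one_mem U), AddMonoidHom.zero_apply, hε0]; simp [hδ])⟩
      neg_mem' := fun {D} ⟨p, hp, hD⟩ =>
        ⟨p, hp, fun u => by rw [AddMonoidHom.neg_apply, CharTwo.neg_eq, hD]⟩ }
  have hl0 := hl.ne_zero
  have hinvS : ∀ D ∈ S, ∀ E : F →+ F, (∀ x, E x = l * D (l⁻¹ * x)) → E ∈ S := by
    rintro D ⟨p, hp, hD⟩ E hE
    refine ⟨k p, hUinv p hp, fun x => hinj ?_⟩
    rw [hE, hD, hmul, hDf _ _ hp, hDf _ _ (hUinv p hp)]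
    have hkδ : k (δ p (L (l⁻¹ * x))) = δ (k p) (k (L (l⁻¹ * x))) := by simp [hδ, map_mul, map_inv]
    rw [hkδ]
    refine hcongr _ (hUinv p hp) _ (hAinv _ (hLA _)) _ (hLA x) ?_
    rw [← map_pow, hLe, hLe, ← hmul, mul_inv_cancel_left₀ hl0]
  have hne : ∃ D ∈ S, D ≠ 0 := by
    obtain ⟨p, hp, hpA⟩ := SetLike.exists_of_lt hAU
    refine ⟨AddMonoidHom.mk' (Df p) (hDadd p hp), ⟨p, hp, fun u => rfl⟩, fun h => hpA ?_⟩
    rw [← hCA, Subgroup.mem_centralizer_iff]
    intro a ha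
    have hsq : a ^ 2 ^ f * a ^ 2 ^ f = 1 := by rw [← pow_two, ← pow_mul, ← pow_succ, hf.1 a ha]
    obtain ⟨u, hu⟩ := (hrange _).mp hsq
    have h1 : δ p a = 1 := by
      rw [hcongr p hp a ha _ (hLA u) (by rw [hLe, hu]), ← hDf _ _ hp,
        show Df p u = 0 from DFunLike.congr_fun h u, hε0]
    calc a * p = δ p a * a * p := by rw [h1, one_mul]
      _ = p * a := by simp only [hδ]; group
  obtain ⟨D, ⟨p, hp, hD⟩, hDinj⟩ := hl.exists_injective S hinvS hne
  have hpp := (hU p hp).1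
  have hpp0 : (p * p) ^ 2 ^ f = 1 := by
    have hsq : (p * p) ^ 2 ^ f * (p * p) ^ 2 ^ f = 1 := by
      rw [← pow_two ((p * p) ^ 2 ^ f), ← pow_mul, ← pow_succ, hf.1 _ hpp]
    obtain ⟨u, hu⟩ := (hrange _).mp hsq
    have h1 : ε (D u) = ε 0 := by
      rw [hD, hDf _ _ hp, ← hcongr p hp _ hpp _ (hLA u) (by rw [hLe, hu]), hε0]
      simp only [hδ]; group
    rw [← hu, (injective_iff_map_eq_zero D).mp hDinj u (hinj h1), hε0]
  obtain ⟨a, ha, haa⟩ := exists_sqrt hk hAinv hcA hf f (p * p) hpp le_rfl hpp0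
  set v := δ p a with hv
  have hv2 : v * v = 1 := hδsq p hp a ha
  obtain ⟨d, hd, hdd⟩ := exists_root hk hAinv hcA hf hv2
  set b := d ^ 2 ^ (f - 1) with hb
  have hbA : b ∈ A := pow_mem hd _
  have hbb : b * b = v := by
    rw [← pow_two, hb, ← pow_mul, ← pow_succ, show f - 1 + 1 = f by omega, hdd]
  have hδb : δ p b = 1 := hker b hbA (by
    obtain ⟨g, hg⟩ : ∃ g, f = g + 1 := ⟨f - 1, by omega⟩
    rw [hg, pow_succ', pow_mul, pow_two, hbb]
    obtain ⟨g', hg'⟩ : ∃ g', g = g' + 1 := ⟨g - 1, by omega⟩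
    rw [hg', pow_succ', pow_mul, pow_two, hv2, one_pow]) p hp
  set y := a⁻¹ * b with hy
  have hyA : y ∈ A := mul_mem (inv_mem ha) hbA
  have hδy : δ p y = v := by
    rw [hy, hδmul p _ (inv_mem ha) _ hbA, hδb, mul_one]
    have h1 := hδmul p _ (inv_mem ha) _ ha
    rw [inv_mul_cancel, show δ p 1 = 1 by simp [hδ]] at h1
    rw [eq_inv_of_mul_eq_one_left h1.symm]
    exact inv_eq_of_mul_eq_one_right hv2
  have hyy : y * y = v * (p * p)⁻¹ := by
    calc y * y = a⁻¹ * (b * a⁻¹) * b := by rw [hy]; group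
      _ = (a * a)⁻¹ * (b * b) := by rw [hcA b hbA a⁻¹ (inv_mem ha)]; group
      _ = (p * p)⁻¹ * v := by rw [haa, hbb]
      _ = v * (p * p)⁻¹ := (hVc v _ hv2).symm
  have hfinal : p * y * (p * y) = 1 := by
    calc p * y * (p * y) = (p * y * p⁻¹) * ((p * p) * y) := by group
      _ = (v * y) * (y * (p * p)) := by
          rw [hcA _ hpp y hyA, ← hδy]; simp only [hδ]; group
      _ = v * (y * y) * (p * p) := by group
      _ = v * v * ((p * p)⁻¹ * (p * p)) := by rw [hyy]; group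
      _ = 1 := by rw [hv2, inv_mul_cancel, one_mul]
  have hpA : p ∈ A := by
    have := mul_mem (hZA (hV _ hfinal)) (inv_mem hyA)
    rwa [mul_inv_cancel_right] at this
  have hzero : ∀ u, D u = 0 := fun u => hinj (by
    rw [hD, hDf _ _ hp, hε0]
    simp only [hδ]
    rw [hcA p hpA _ (hLA u)]; group)
  exact one_ne_zero (hDinj ((hzero 1).trans (map_zero D).symm))

theorem center_elementary (hk : IsIrrGen k) (h2 : IsPGroup 2 P) (hna : ∃ x y : P, x * y ≠ y * x) :
    ∀ z ∈ Subgroup.center P, z * z = 1 := by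
  intro z hz
  by_contra hne
  have hZ : Subgroup.center P ≠ ⊥ := fun h => by
    rw [h, Subgroup.mem_bot] at hz
    exact hne (by rw [hz, one_mul])
  obtain ⟨e, he⟩ := exists_hasExp h2 hZ
  refine center_elementary_aux hk h2 hna he ?_
  by_contra h0
  have h1 := he.1 z hz
  rw [show e = 0 by omega, zero_add, pow_one, pow_two] at h1
  exact hne h1

end Cfsg.Agent.Lib.Suzuki87
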