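import Cfsg.Agent.Lib.Suzuki87.Centre

/-!
Abelian normal invariant subgroups have exponent at most four.
-/

set_option autoImplicit false
set_option linter.unusedSectionVars false
set_option maxHeartbeats 400000

open scoped commutatorElement

namespace Cfsg.Agent.Lib.Suzuki87

open Cfsg.Agent.Lib.SuzukiTwo (Inv Good HasExp exists_hasExp inv_center inv_centralizer exists_layer exists_layer_max mem_of_fixed_coset disp disp_one_right disp_map disp_mem disp_mul disp_pow disp_disp)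

variable {P : Type*} [Group P] [Finite P] {k : MulAut P}

theorem false_of_trivial_omega (hk : IsIrrGen k) (h2 : IsPGroup 2 P) {A : Subgroup P} [A.Normal]
    (hcA : ∀ x ∈ A, ∀ y ∈ A, x * y = y * x) (hAinv : Inv k A)
    (hVA : ∀ x : P, x * x = 1 → x ∈ A) {f : ℕ} (hf : HasExp A f) (hf2 : 2 ≤ f)
    (hCA : ∀ p : P, (∀ a ∈ A, p * a = a * p) → p ∈ A) {U : Subgroup P} (hAU : A < U)
    (hUinv : Inv k U) (hU : ∀ x ∈ U, x * x ∈ A)
    (htriv : ∀ p ∈ U, ∀ a ∈ A, a ^ 4 = 1 → disp p a = 1) : False := by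
  classical
  have hV : ∀ x : P, x * x = 1 → x ∈ Subgroup.center P := fun x => involution_central hk h2
  have hVc : ∀ x y : P, x * x = 1 → x * y = y * x := fun x y hx =>
    (Subgroup.mem_center_iff.mp (hV x hx) y).symm
  have hδ4 : ∀ p ∈ U, ∀ a ∈ A, ∀ i : ℕ, a ^ 2 ^ (i + 2) = 1 → disp p a ^ 2 ^ i = 1 := by
    intro p hp a ha i h
    rw [← disp_pow hcA p ha]
    refine htriv p hp _ (pow_mem ha _) ?_
    rw [show 4 = 2 ^ 2 by norm_num, ← pow_mul, ← pow_add, h]
  have hδsq : ∀ p ∈ U, ∀ a ∈ A, disp p a * disp p a = 1 := by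
    intro p hp a ha
    obtain ⟨b, hb, hbb⟩ := exists_sqrt hk hAinv hcA hf (f - 1) (disp p a) (disp_mem p ha) (by omega)
      (hδ4 p hp a ha (f - 1) (by rw [show f - 1 + 2 = f + 1 by omega]; exact hf.1 a ha))
    obtain ⟨c, hc, hcc⟩ := exists_sqrt hk hAinv hcA hf f b hb le_rfl (by
      obtain ⟨g, hg⟩ : ∃ g, f = g + 1 := ⟨f - 1, by omega⟩
      rw [hg, pow_succ', pow_mul, pow_two, hbb]
      exact hδ4 p hp a ha g (by rw [show g + 2 = f + 1 by omega]; exact hf.1 a ha))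
    have h4 : disp p a = c ^ 4 := by
      rw [← hbb, ← hcc]; simp only [pow_succ, pow_zero, one_mul, mul_assoc]
    have h8 : (disp p c) ^ 4 = (c ^ 8)⁻¹ := by
      rw [← disp_pow hcA p hc, ← h4, disp_disp hcA (hU p hp) ha, h4]; group
    have hdesc : ∀ m : ℕ, c ^ 2 ^ (3 + m) = 1 → c ^ 8 = 1 := by
      intro m
      induction m with
      | zero => intro h; simpa using h
      | succ m ih =>
        intro h
        refine ih ?_
        have h1 := hδ4 p hp c hc (2 + m) (by rw [show 2 + m + 2 = 3 + (m + 1) by omega]; exact h)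
        rw [show 2 ^ (2 + m) = 4 * 2 ^ m by rw [pow_add]; norm_num, pow_mul, h8, inv_pow, ← pow_mul,
          inv_eq_one] at h1
        rw [show 2 ^ (3 + m) = 8 * 2 ^ m by rw [pow_add]; norm_num]
        exact h1
    rw [h4, ← pow_add]
    refine hdesc f ?_
    rw [show 3 + f = f + 1 + 2 by omega, pow_add, pow_mul, hf.1 c hc, one_pow]
  have hker : ∀ a ∈ A, a ^ 2 ^ f = 1 → ∀ p ∈ U, disp p a = 1 := by
    intro a ha h p hp
    obtain ⟨b, hb, rfl⟩ := exists_sqrt hk hAinv hcA hf f a ha le_rfl h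
    rw [disp_mul hcA p hb hb, hδsq p hp b hb]
  obtain ⟨a1, ha1, ha1ne⟩ := hf.2
  have ha11 : a1 ^ 2 ^ f * a1 ^ 2 ^ f = 1 := by rw [← pow_two, ← pow_mul, ← pow_succ, hf.1 a1 ha1]
  obtain ⟨F, iF, iFin, iC, l, ε, hl, hinj, hadd, -, hrange, hmul⟩ :=
    hk.field _ ha1ne ha11
  have hlift : ∀ u : F, ∃ r ∈ A, r ^ 2 ^ f = ε u := fun u =>
    exists_root hk hAinv hcA hf ((hrange _).mpr ⟨u, rfl⟩)
  choose L hLA hLe using hlift
  have hε0 : ε 0 = 1 := by
    have := hadd 0 0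
    rw [add_zero] at this
    exact mul_eq_right.mp this.symm
  have hD : ∀ (p : P) (u : F), ∃ r : F, p ∈ U → ε r = disp p (L u) := by
    intro p u
    by_cases hp : p ∈ U
    · obtain ⟨r, hr⟩ := (hrange _).mp (hδsq p hp _ (hLA u))
      exact ⟨r, fun _ => hr⟩
    · exact ⟨0, fun h => absurd h hp⟩
  choose Df hDf using hD
  have hcongr : ∀ p ∈ U, ∀ a ∈ A, ∀ a' ∈ A, a ^ 2 ^ f = a' ^ 2 ^ f → disp p a = disp p a' := by
    intro p hp a ha a' ha' h
    have h1 : disp p (a' * a⁻¹) = 1 := hker _ (mul_mem ha' (inv_mem ha))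
      (by rw [(show Commute a' a⁻¹ from hcA _ ha' _ (inv_mem ha)).mul_pow, inv_pow, h, mul_inv_cancel]) p hp
    calc disp p a = disp p (a' * a⁻¹) * disp p a := by rw [h1, one_mul]
      _ = disp p a' := by rw [← disp_mul hcA p (mul_mem ha' (inv_mem ha)) ha, inv_mul_cancel_right]
  have hDadd : ∀ p ∈ U, ∀ u v : F, Df p (u + v) = Df p u + Df p v := fun p hp u v => hinj (by
    rw [hadd, hDf _ _ hp, hDf _ _ hp, hDf _ _ hp, ← disp_mul hcA p (hLA u) (hLA v)]
    refine hcongr p hp _ (hLA _) _ (mul_mem (hLA u) (hLA v)) ?_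
    rw [(show Commute (L u) (L v) from hcA _ (hLA u) _ (hLA v)).mul_pow, hLe, hLe, hLe, hadd])
  have hDp : ∀ p ∈ U, ∀ p' ∈ U, ∀ u : F, Df (p * p') u = Df p u + Df p' u := fun p hp p' hp' u =>
    hinj (by
      rw [hadd, hDf _ _ (mul_mem hp hp'), hDf _ _ hp, hDf _ _ hp']
      set d := disp p' (L u) with hd
      have hd2 : d * d = 1 := hδsq p' hp' _ (hLA u)
      calc disp (p * p') (L u) = p * d * p⁻¹ * (p * L u * p⁻¹ * (L u)⁻¹) := by
            simp only [hd, disp]; group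
        _ = d * disp p (L u) := by rw [← hVc d p hd2, mul_inv_cancel_right]; rfl
        _ = disp p (L u) * d := hVc _ _ hd2)
  let S : AddSubgroup (F →+ F) :=
    { carrier := {D | ∃ p ∈ U, ∀ u, D u = Df p u}
      add_mem' := fun {D E} ⟨p, hp, hD⟩ ⟨p', hp', hE⟩ =>
        ⟨p * p', mul_mem hp hp', fun u => by rw [AddMonoidHom.add_apply, hD, hE, hDp p hp p' hp']⟩
      zero_mem' := ⟨1, one_mem U, fun u => hinj (by
        rw [hDf _ _ (one_mem U), AddMonoidHom.zero_apply, hε0]; simp [disp])⟩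
      neg_mem' := fun {D} ⟨p, hp, hD⟩ =>
        ⟨p, hp, fun u => by rw [AddMonoidHom.neg_apply, CharTwo.neg_eq, hD]⟩ }
  have hl0 := hl.ne_zero
  have hinvS : ∀ D ∈ S, ∀ E : F →+ F, (∀ x, E x = l * D (l⁻¹ * x)) → E ∈ S := by
    rintro D ⟨p, hp, hD⟩ E hE
    refine ⟨k p, hUinv p hp, fun x => hinj ?_⟩
    rw [hE, hD, hmul, hDf _ _ hp, hDf _ _ (hUinv p hp), disp_map]
    refine hcongr _ (hUinv p hp) _ (hAinv _ (hLA _)) _ (hLA x) ?_
    rw [← map_pow, hLe, hLe, ← hmul, mul_inv_cancel_left₀ hl0]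
  have hne : ∃ D ∈ S, D ≠ 0 := by
    obtain ⟨p, hp, hpA⟩ := SetLike.exists_of_lt hAU
    refine ⟨AddMonoidHom.mk' (Df p) (hDadd p hp), ⟨p, hp, fun u => rfl⟩, fun h => hpA (hCA p ?_)⟩
    intro a ha
    have hsq : a ^ 2 ^ f * a ^ 2 ^ f = 1 := by rw [← pow_two, ← pow_mul, ← pow_succ, hf.1 a ha]
    obtain ⟨u, hu⟩ := (hrange _).mp hsq
    have h1 : disp p a = 1 := by
      rw [hcongr p hp a ha _ (hLA u) (by rw [hLe, hu]), ← hDf _ _ hp,
        show Df p u = 0 from DFunLike.congr_fun h u, hε0]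
    calc p * a = disp p a * a * p := by simp only [disp]; group
      _ = a * p := by rw [h1, one_mul]
  obtain ⟨D, ⟨p, hp, hD⟩, hDinj⟩ := hl.exists_injective S hinvS hne
  have hpp := hU p hp
  have hpp0 : (p * p) ^ 2 ^ f = 1 := by
    have hsq : (p * p) ^ 2 ^ f * (p * p) ^ 2 ^ f = 1 := by
      rw [← pow_two ((p * p) ^ 2 ^ f), ← pow_mul, ← pow_succ, hf.1 _ hpp]
    obtain ⟨u, hu⟩ := (hrange _).mp hsq
    have h1 : ε (D u) = ε 0 := by
      rw [hD, hDf _ _ hp, ← hcongr p hp _ hpp _ (hLA u) (by rw [hLe, hu]), hε0]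
      simp only [disp]; group
    rw [← hu, (injective_iff_map_eq_zero D).mp hDinj u (hinj h1), hε0]
  obtain ⟨a, ha, haa⟩ := exists_sqrt hk hAinv hcA hf f (p * p) hpp le_rfl hpp0
  set v := disp p a with hv
  have hv2 : v * v = 1 := hδsq p hp a ha
  obtain ⟨d, hd, hdd⟩ := exists_root hk hAinv hcA hf hv2
  set b := d ^ 2 ^ (f - 1) with hb
  have hbA : b ∈ A := pow_mem hd _
  have hbb : b * b = v := by
    rw [← pow_two, hb, ← pow_mul, ← pow_succ, show f - 1 + 1 = f by omega, hdd]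
  have hδb : disp p b = 1 := hker b hbA (by
    obtain ⟨g, hg⟩ : ∃ g, f = g + 1 := ⟨f - 1, by omega⟩
    rw [hg, pow_succ', pow_mul, pow_two, hbb]
    obtain ⟨g', hg'⟩ : ∃ g', g = g' + 1 := ⟨g - 1, by omega⟩
    rw [hg', pow_succ', pow_mul, pow_two, hv2, one_pow]) p hp
  set y := a⁻¹ * b with hy
  have hyA : y ∈ A := mul_mem (inv_mem ha) hbA
  have hδy : disp p y = v := by
    rw [hy, disp_mul hcA p (inv_mem ha) hbA, hδb, mul_one]
    have h1 := disp_mul hcA p (inv_mem ha) ha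
    rw [inv_mul_cancel, disp_one_right] at h1
    rw [eq_inv_of_mul_eq_one_left h1.symm]
    exact inv_eq_of_mul_eq_one_right hv2
  have hyy : y * y = v * (p * p)⁻¹ := by
    calc y * y = a⁻¹ * (b * a⁻¹) * b := by rw [hy]; group
      _ = (a * a)⁻¹ * (b * b) := by rw [hcA b hbA a⁻¹ (inv_mem ha)]; group
      _ = (p * p)⁻¹ * v := by rw [haa, hbb]
      _ = v * (p * p)⁻¹ := (hVc v _ hv2).symm
  have hfinal : p * y * (p * y) = 1 := by
    calc p * y * (p * y) = (p * y * p⁻¹) * ((p * p) * y) := by group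
      _ = (v * y) * (y * (p * p)) := by
          rw [hcA _ hpp y hyA, ← hδy]; simp only [disp]; group
      _ = v * (y * y) * (p * p) := by group
      _ = v * v * ((p * p)⁻¹ * (p * p)) := by rw [hyy]; group
      _ = 1 := by rw [hv2, inv_mul_cancel, one_mul]
  have hpA : p ∈ A := by
    have := mul_mem (hVA _ hfinal) (inv_mem hyA)
    rwa [mul_inv_cancel_right] at this
  have hzero : ∀ u, D u = 0 := fun u => hinj (by
    rw [hD, hDf _ _ hp, hε0]
    simp only [disp]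
    rw [hcA p hpA _ (hLA u)]; group)
  exact one_ne_zero (hDinj ((hzero 1).trans (map_zero D).symm))

/-- Abelian normal invariant subgroups containing the centre have exponent at most four. -/
theorem pow_four_of_good (hk : IsIrrGen k) (h2 : IsPGroup 2 P) (hna : ∃ x y : P, x * y ≠ y * x)
    {A0 : Subgroup P}
    (hA0 : Good k A0) : ∀ a ∈ A0, a ^ 4 = 1 := by
  classical
  obtain ⟨a0, b0, hab0⟩ := hna
  by_contra hbad
  push Not at hbad
  obtain ⟨w, hw, hw4⟩ := hbad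
  have hV : ∀ x : P, x * x = 1 → x ∈ Subgroup.center P := fun x => involution_central hk h2
  have hVc : ∀ x y : P, x * x = 1 → x * y = y * x := fun x y hx =>
    (Subgroup.mem_center_iff.mp (hV x hx) y).symm
  obtain ⟨A, hA, hmax⟩ := Finset.exists_max_image
    ((Set.toFinite {A : Subgroup P | Good k A ∧ A0 ≤ A}).toFinset)
    (fun A => Nat.card A) ⟨A0, by simpa using hA0⟩
  simp only [Set.Finite.mem_toFinset, Set.mem_setOf_eq] at hA hmax
  obtain ⟨⟨hZA, hcA, hAn, hAinv⟩, hA0A⟩ := hA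
  haveI := hAn
  have hVA : ∀ x : P, x * x = 1 → x ∈ A := fun x hx => hZA (hV x hx)
  obtain ⟨f, hf⟩ := exists_hasExp h2 (A := A) (fun h => hw4 (by
    have := hA0A hw
    rw [h, Subgroup.mem_bot] at this
    rw [this, one_pow]))
  have hf2 : 2 ≤ f := by
    by_contra hlt
    refine hw4 ?_
    have h := hf.1 w (hA0A hw)
    rcases (by omega : f = 0 ∨ f = 1) with rfl | rfl
    · rw [show (4 : ℕ) = 2 ^ (0 + 1) * 2 by norm_num, pow_mul, h, one_pow]
    · exact h
  have hCA : ∀ p : P, (∀ a ∈ A, p * a = a * p) → p ∈ A := by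
    intro p hp
    have hle : A ≤ Subgroup.centralizer (A : Set P) := fun x hx =>
      Subgroup.mem_centralizer_iff.mpr fun a ha => hcA a ha x hx
    by_contra hpA
    have hlt : A < Subgroup.centralizer (A : Set P) := lt_of_le_of_ne hle fun h => hpA (by
      rw [h]; exact Subgroup.mem_centralizer_iff.mpr fun a ha => (hp a ha).symm)
    obtain ⟨M, hAM, hMC, hMn, hMinv, hM⟩ := exists_layer h2 hAinv (inv_centralizer hAinv) hlt
    have hMc := commute_of_extend hk h2 hAinv hcA hVA hf (by omega) hMinv hAM.le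
      (fun x hx a ha => (Subgroup.mem_centralizer_iff.mp (hMC hx) a ha).symm)
      (fun x hx => (hM x hx).1) (fun x hx y _ => (hM x hx).2 y)
    have := hmax M ⟨⟨hZA.trans hAM.le, hMc, hMn, hMinv⟩, hA0A.trans hAM.le⟩
    exact hAM.ne (Subgroup.eq_of_le_of_card_ge hAM.le this)
  have hAtop : A < ⊤ := lt_top_iff_ne_top.mpr fun h =>
    hab0 (hcA a0 (h ▸ Subgroup.mem_top a0) b0 (h ▸ Subgroup.mem_top b0))
  obtain ⟨U, hAU, -, -, hUinv, hU⟩ :=
    exists_layer h2 (C := ⊤) hAinv (fun x _ => Subgroup.mem_top _) hAtop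
  by_cases htriv : ∀ p ∈ U, ∀ a ∈ A, a ^ 4 = 1 → disp p a = 1
  · exact false_of_trivial_omega hk h2 hcA hAinv hVA hf hf2 hCA hAU hUinv (fun x hx => (hU x hx).1) htriv
  push Not at htriv
  obtain ⟨p0, hp0, x0, hx0, hx04, hp0x⟩ := htriv
  obtain ⟨a1, ha1, ha1ne⟩ := hf.2
  have ha11 : a1 ^ 2 ^ f * a1 ^ 2 ^ f = 1 := by rw [← pow_two, ← pow_mul, ← pow_succ, hf.1 a1 ha1]
  obtain ⟨F, iF, iFin, iC, l, ε, hl, hinj, hadd, -, hrange, hmul⟩ :=
    hk.field _ ha1ne ha11
  have hε0 : ε 0 = 1 := by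
    have := hadd 0 0
    rw [add_zero] at this
    exact mul_eq_right.mp this.symm
  have hε2 : ∀ u, ε u * ε u = 1 := fun u => (hrange _).mpr ⟨u, rfl⟩
  -- roots of order eight
  have hlift : ∀ u : F, ∃ r ∈ A, r ^ 4 = ε u ∧ r ^ 8 = 1 := by
    intro u
    obtain ⟨b, hb, hbu⟩ := exists_root hk hAinv hcA hf (hε2 u)
    refine ⟨b ^ 2 ^ (f - 2), pow_mem hb _, ?_, ?_⟩
    · rw [← pow_mul, show (4 : ℕ) = 2 ^ 2 by norm_num, ← pow_add, Nat.sub_add_cancel hf2, hbu]
    · rw [← pow_mul, show (8 : ℕ) = 2 ^ 3 by norm_num, ← pow_add,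
        show f - 2 + 3 = f + 1 by omega, hf.1 b hb]
  choose W hWA hW4 hW8 using hlift
  have hLA : ∀ u, W u * W u ∈ A := fun u => mul_mem (hWA u) (hWA u)
  have hL2 : ∀ u, W u * W u * (W u * W u) = ε u := fun u => by
    rw [← hW4 u]; simp only [pow_succ, pow_zero, one_mul, mul_assoc]
  have hL4 : ∀ u, (W u * W u) ^ 4 = 1 := fun u => by rw [← pow_two, ← pow_mul, hW8]
  have hδV : ∀ p ∈ U, ∀ a ∈ A, a ^ 4 = 1 → disp p a * disp p a = 1 := by
    intro p _ a ha h4
    rw [← disp_mul hcA p ha ha]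
    simp only [disp]
    rw [← hVc (a * a) p (by rw [← h4]; simp only [pow_succ, pow_zero, one_mul, mul_assoc])]
    group
  have hcongr : ∀ p ∈ U, ∀ a ∈ A, ∀ a' ∈ A, a * a = a' * a' → disp p a = disp p a' := by
    intro p hp a ha a' ha' h
    have h1 : disp p (a' * a⁻¹) = 1 := by
      simp only [disp]
      rw [← hVc (a' * a⁻¹) p (by
        calc a' * a⁻¹ * (a' * a⁻¹) = a' * (a⁻¹ * a') * a⁻¹ := by group
          _ = a' * a' * (a * a)⁻¹ := by rw [hcA _ (inv_mem ha) _ ha']; group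
          _ = 1 := by rw [h, mul_inv_cancel])]
      group
    calc disp p a = disp p (a' * a⁻¹) * disp p a := by rw [h1, one_mul]
      _ = disp p a' := by rw [← disp_mul hcA p (mul_mem ha' (inv_mem ha)) ha, inv_mul_cancel_right]
  have hD : ∀ (p : P) (u : F), ∃ r : F, p ∈ U → ε r = disp p (W u * W u) := by
    intro p u
    by_cases hp : p ∈ U
    · obtain ⟨r, hr⟩ := (hrange _).mp (hδV p hp _ (hLA u) (hL4 u))
      exact ⟨r, fun _ => hr⟩
    · exact ⟨0, fun h => absurd h hp⟩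
  choose Df hDf using hD
  have hDadd : ∀ p ∈ U, ∀ u v : F, Df p (u + v) = Df p u + Df p v := fun p hp u v => hinj (by
    rw [hadd, hDf _ _ hp, hDf _ _ hp, hDf _ _ hp, ← disp_mul hcA p (hLA u) (hLA v)]
    refine hcongr p hp _ (hLA _) _ (mul_mem (hLA u) (hLA v)) ?_
    have hsplit : ∀ a ∈ A, ∀ b ∈ A, a * b * (a * b) = a * a * (b * b) := fun a ha b hb => by
      calc a * b * (a * b) = a * (b * a) * b := by group
        _ = a * a * (b * b) := by rw [hcA b hb a ha]; group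
    rw [hsplit _ (hLA u) _ (hLA v), hL2, hL2, hL2, hadd])
  have hDp : ∀ p ∈ U, ∀ p' ∈ U, ∀ u : F, Df (p * p') u = Df p u + Df p' u := fun p hp p' hp' u =>
    hinj (by
      rw [hadd, hDf _ _ (mul_mem hp hp'), hDf _ _ hp, hDf _ _ hp']
      set d := disp p' (W u * W u) with hd
      have hd2 : d * d = 1 := hδV p' hp' _ (hLA u) (hL4 u)
      calc disp (p * p') (W u * W u)
          = p * d * p⁻¹ * (p * (W u * W u) * p⁻¹ * (W u * W u)⁻¹) := by
            simp only [hd, disp]; group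
        _ = d * disp p (W u * W u) := by rw [← hVc d p hd2, mul_inv_cancel_right]; rfl
        _ = disp p (W u * W u) * d := hVc _ _ hd2)
  let S : AddSubgroup (F →+ F) :=
    { carrier := {D | ∃ p ∈ U, ∀ u, D u = Df p u}
      add_mem' := fun {D E} ⟨p, hp, hD⟩ ⟨p', hp', hE⟩ =>
        ⟨p * p', mul_mem hp hp', fun u => by rw [AddMonoidHom.add_apply, hD, hE, hDp p hp p' hp']⟩
      zero_mem' := ⟨1, one_mem U, fun u => hinj (by
        rw [hDf _ _ (one_mem U), AddMonoidHom.zero_apply, hε0]; simp [disp])⟩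
      neg_mem' := fun {D} ⟨p, hp, hD⟩ =>
        ⟨p, hp, fun u => by rw [AddMonoidHom.neg_apply, CharTwo.neg_eq, hD]⟩ }
  have hl0 := hl.ne_zero
  have hinvS : ∀ D ∈ S, ∀ E : F →+ F, (∀ x, E x = l * D (l⁻¹ * x)) → E ∈ S := by
    rintro D ⟨p, hp, hD⟩ E hE
    refine ⟨k p, hUinv p hp, fun x => hinj ?_⟩
    rw [hE, hD, hmul, hDf _ _ hp, hDf _ _ (hUinv p hp), disp_map]
    refine hcongr _ (hUinv p hp) _ (hAinv _ (hLA _)) _ (hLA x) ?_
    rw [← map_mul, hL2, hL2, ← hmul, mul_inv_cancel_left₀ hl0]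
  have hne : ∃ D ∈ S, D ≠ 0 := by
    refine ⟨AddMonoidHom.mk' (Df p0) (hDadd p0 hp0), ⟨p0, hp0, fun u => rfl⟩, fun h => hp0x ?_⟩
    obtain ⟨u, hu⟩ := (hrange (x0 * x0)).mp (by
      rw [← hx04]; simp only [pow_succ, pow_zero, one_mul, mul_assoc])
    rw [hcongr p0 hp0 x0 hx0 _ (hLA u) (by rw [hL2, hu]), ← hDf _ _ hp0,
      show Df p0 u = 0 from DFunLike.congr_fun h u, hε0]
  obtain ⟨D, ⟨p, hp, hD⟩, hDinj⟩ := hl.exists_injective S hinvS hne
  have hid : ∀ u, D u = u := by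
    intro u
    refine hDinj ?_
    set c := disp p (W u) with hc
    have hcA' : c ∈ A := disp_mem p (hWA u)
    have hc2 : disp p (W u * W u) = c * c := by rw [hc, disp_mul hcA p (hWA u) (hWA u)]
    have hεc : ε (D u) = c * c := by rw [hD, hDf _ _ hp, hc2]
    have hcc : c * c * (c * c) = 1 := by rw [← hεc]; exact hε2 _
    have h1 : ε (D (D u)) = disp p c := by
      rw [hD, hDf _ _ hp]
      exact hcongr p hp _ (hLA _) _ hcA' (by rw [hL2, hεc])
    refine hinj ?_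
    rw [h1, hc, disp_disp hcA (hU p hp).1 (hWA u), ← hc, hεc]
    exact inv_eq_of_mul_eq_one_right hcc
  -- the coset of `p` modulo the kernel would be fixed
  let N : Subgroup P :=
    { carrier := {x | x ∈ U ∧ ∀ u, Df x u = 0}
      mul_mem' := fun {x y} hx hy => ⟨mul_mem hx.1 hy.1, fun u => by
        rw [hDp x hx.1 y hy.1, hx.2, hy.2, add_zero]⟩
      one_mem' := ⟨one_mem U, fun u => hinj (by rw [hDf _ _ (one_mem U), hε0]; simp [disp])⟩
      inv_mem' := fun {x} hx => ⟨inv_mem hx.1, fun u => by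
        have h := hDp x⁻¹ (inv_mem hx.1) x hx.1 u
        rw [inv_mul_cancel, hx.2, add_zero] at h
        rw [← h]
        refine hinj ?_
        rw [hDf _ _ (one_mem U), hε0]
        simp [disp]⟩ }
  have hkD : ∀ x ∈ U, ∀ u, Df (k x) (l * u) = l * Df x u := fun x hx u => hinj (by
    rw [hDf _ _ (hUinv x hx), hmul, hDf _ _ hx, disp_map]
    refine hcongr _ (hUinv x hx) _ (hLA _) _ (hAinv _ (hLA u)) ?_
    rw [← map_mul, hL2, hL2, hmul])
  have hNinv : Inv k N := fun x hx => ⟨hUinv x hx.1, fun u => by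
    rw [← mul_inv_cancel_left₀ hl0 u, hkD x hx.1, hx.2, mul_zero]⟩
  have hpN : p ∈ N := by
    refine mem_of_fixed_coset (fun x => fixedPointFree hk h2 ha1ne ha11) hNinv ⟨mul_mem (inv_mem hp) (hUinv p hp), fun u => ?_⟩
    have h := hDp p hp (p⁻¹ * k p) (mul_mem (inv_mem hp) (hUinv p hp)) u
    rw [mul_inv_cancel_left, ← hD, hid] at h
    have h' : Df (k p) u = u := by
      rw [← mul_inv_cancel_left₀ hl0 u, hkD p hp, ← hD, hid]
    rw [h'] at h
    exact left_eq_add.mp h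
  have := hid 1
  rw [hD, hpN.2] at this
  exact zero_ne_one this

end Cfsg.Agent.Lib.Suzuki87
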