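import Cfsg.Agent.Lib.Suzuki87.Arith

/-!
An element of a finite field of characteristic two whose weights are separated, and the equivariant
additive and biadditive maps with respect to it.
-/

set_option autoImplicit false
set_option linter.unusedSectionVars false

namespace Cfsg.Agent.Lib.Suzuki87

open Cfsg.Agent.Lib.SuzukiTwo

variable {F : Type*} [Field F] [Fintype F] [CharP F 2]

/-- The weights of `l` are separated. -/
structure IsSep (l : F) : Prop where
  ne_zero : l ≠ 0
  ne_one : l ≠ 1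
  pair_eq : ∀ σ τ μ : F ≃+* F, σ l * τ l = μ l → σ = τ
  sep : ∀ φ σ τ : F ≃+* F, φ (l * σ l⁻¹) = l * τ l⁻¹ → σ = τ
  span : ∀ W : AddSubgroup F, (∀ x ∈ W, l * x ∈ W) → (∃ x ∈ W, x ≠ 0) → W = ⊤

theorem pow_modEq_of_eq {l : F} (hl0 : l ≠ 0) {a b : ℕ} (h : l ^ a = l ^ b) :
    a ≡ b [MOD orderOf l] := by
  have h1 : (Units.mk0 l hl0) ^ a = (Units.mk0 l hl0) ^ b := Units.ext (by simpa using h)
  have h2 := pow_eq_pow_iff_modEq.mp h1
  rwa [← orderOf_units, Units.val_mk0] at h2

theorem isSep_of_order {l : F} {n d : ℕ} (hn : Fintype.card F = 2 ^ n) (hn2 : 2 ≤ n) (hdn : d ∣ n)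
    (hdl : d * orderOf l = 2 ^ n - 1) : IsSep l := by
  have hdle : d ≤ n := Nat.le_of_dvd (by omega) hdn
  have hM : n < 2 ^ n - 1 := by
    have : ∀ k, 2 ≤ k → k + 1 < 2 ^ k := fun k hk => by
      induction k, hk using Nat.le_induction with
      | base => norm_num
      | succ k hk ih => rw [pow_succ]; omega
    have := this n hn2
    omega
  have hm1 : 1 < orderOf l := by
    rcases Nat.lt_or_ge 1 (orderOf l) with h | h
    · exact h
    · have : d * orderOf l ≤ n * 1 := Nat.mul_le_mul hdle h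
      omega
  have hl0 : l ≠ 0 := fun h => by rw [h, orderOf_zero] at hm1; omega
  have hexp : ∀ σ : F ≃+* F, ∃ a < n, ∀ x, σ x = x ^ (2 ^ a) := fun σ => exists_exponent hn σ
  have hpe : ∀ σ τ μ : F ≃+* F, σ l * τ l = μ l → σ = τ := by
    intro σ τ μ h
    obtain ⟨a, ha, ea⟩ := hexp σ
    obtain ⟨b, hb, eb⟩ := hexp τ
    obtain ⟨c, hc, ec⟩ := hexp μ
    rw [ea, eb, ec, ← pow_add] at h
    obtain rfl := pair_eq_mod hdn hdl ha hb hc (pow_modEq_of_eq hl0 h)
    exact RingEquiv.ext fun x => by rw [ea, eb]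
  have hext : ∀ σ τ : F ≃+* F, σ l = τ l → σ = τ := fun σ τ h => by
    refine hpe σ τ ((frobeniusEquiv F 2).trans σ) ?_
    rw [← h, RingEquiv.trans_apply, frobeniusEquiv_apply, frobenius_def, map_pow, pow_two]
  refine ⟨hl0, fun h => by rw [h, orderOf_one] at hm1; omega, hpe, fun φ σ τ h => ?_, ?_⟩
  · obtain ⟨k, hk, ek⟩ := hexp φ
    obtain ⟨i, hi, ei⟩ := hexp σ
    obtain ⟨j, hj, ej⟩ := hexp τ
    rw [ek, ei, ej, mul_pow, ← pow_mul, ← pow_add, inv_pow, inv_pow, ← div_eq_mul_inv,
      ← div_eq_mul_inv, div_eq_div_iff (pow_ne_zero _ hl0) (pow_ne_zero _ hl0), ← pow_add,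
      ← pow_succ'] at h
    obtain rfl := sep_mod hdn hdl hi hj hk
      ((pow_modEq_of_eq hl0 h).trans (by rw [add_comm (2 ^ (i + k)) 1]))
    exact RingEquiv.ext fun x => by rw [ei, ej]
  · intro W hW hne
    letI : Algebra (ZMod 2) F := ZMod.algebra F 2
    have htop : IntermediateField.adjoin (ZMod 2) ({l} : Set F) = ⊤ := by
      rw [← IsGalois.fixedField_fixingSubgroup (IntermediateField.adjoin (ZMod 2) ({l} : Set F))]
      have hbot : (IntermediateField.adjoin (ZMod 2) ({l} : Set F)).fixingSubgroup = ⊥ := by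
        refine (Subgroup.eq_bot_iff_forall _).mpr fun f hf => ?_
        have h1 : (f : F ≃+* F) l = RingEquiv.refl F l :=
          (IntermediateField.mem_fixingSubgroup_iff _ f).mp hf l
            (IntermediateField.mem_adjoin_simple_self (ZMod 2) l)
        exact AlgEquiv.ext fun x => RingEquiv.congr_fun (hext _ _ h1) x
      rw [hbot, IntermediateField.fixedField_bot]
    have halg : ∀ r : F, r ∈ Algebra.adjoin (ZMod 2) ({l} : Set F) := fun r => by
      rw [← IntermediateField.adjoin_simple_toSubalgebra_of_isAlgebraic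
        (Algebra.IsAlgebraic.isAlgebraic l), htop]
      exact Algebra.mem_top
    have hR : ∀ r : F, ∀ x ∈ W, r * x ∈ W := fun r => by
      induction halg r using Algebra.adjoin_induction with
      | mem y hy => exact fun x hx => by rw [Set.mem_singleton_iff.mp hy]; exact hW x hx
      | algebraMap c =>
        intro x hx
        rcases (by revert c; decide : c = 0 ∨ c = 1) with rfl | rfl
        · rw [map_zero, zero_mul]; exact zero_mem W
        · rwa [map_one, one_mul]
      | add a b _ _ iha ihb => exact fun x hx => by rw [add_mul]; exact add_mem (iha x hx) (ihb x hx)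
      | mul a b _ _ iha ihb => exact fun x hx => by rw [mul_assoc]; exact iha _ (ihb x hx)
    obtain ⟨x, hx, hx0⟩ := hne
    exact eq_top_iff.mpr fun y _ => by
      have := hR (y * x⁻¹) x hx
      rwa [inv_mul_cancel_right₀ hx0] at this

variable {l : F}

/-- The conjugate weights of an automorphism still generate. -/
theorem IsSep.span_weight (hl : IsSep l) {τ : F ≃+* F} {W : AddSubgroup F}
    (h : ∀ i : ℕ, (l * τ l⁻¹) ^ i = 1 → l ^ i = 1)
    (hW : ∀ x ∈ W, l * τ l⁻¹ * x ∈ W) (hne : ∃ x ∈ W, x ≠ 0) : W = ⊤ := by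
  obtain ⟨n, -, hn⟩ := exists_card_eq_two_pow (F := F)
  obtain ⟨a, -, ea⟩ := exists_exponent hn τ
  set u : Fˣ := Units.mk0 l hl.ne_zero with hu
  set v : Fˣ := u * (u⁻¹) ^ (2 ^ a) with hv
  have hvc : (v : F) = l * τ l⁻¹ := by simp [hv, hu, ea]
  have hvz : v ∈ Subgroup.zpowers u :=
    mul_mem (Subgroup.mem_zpowers u) (pow_mem (inv_mem (Subgroup.mem_zpowers u)) _)
  have hord : orderOf u ∣ orderOf v := by
    refine orderOf_dvd_of_pow_eq_one (Units.ext ?_)
    have h1 := h (orderOf v) (by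
      rw [← hvc, ← Units.val_pow_eq_pow_val, pow_orderOf_eq_one]; rfl)
    simpa [hu] using h1
  have heq : Subgroup.zpowers v = Subgroup.zpowers u :=
    Subgroup.eq_of_le_of_card_ge (Subgroup.zpowers_le.mpr hvz) (by
      rw [Nat.card_zpowers, Nat.card_zpowers]; exact Nat.le_of_dvd (orderOf_pos v) hord)
  obtain ⟨j, hj⟩ := (isOfFinOrder_of_finite v).mem_powers_iff_mem_zpowers.mpr
    (heq ▸ Subgroup.mem_zpowers u : u ∈ Subgroup.zpowers v)
  refine hl.span W (fun x hx => ?_) hne
  have hjl : (l * τ l⁻¹) ^ j = l := by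
    rw [← hvc, ← Units.val_pow_eq_pow_val, show v ^ j = u from hj]; simp [hu]
  rw [← hjl]
  clear hjl hj
  induction j with
  | zero => simpa using hx
  | succ j ih => rw [pow_succ', mul_assoc]; exact hW _ ih

/-- An alternating biadditive map commuting with `l` is zero. -/
theorem IsSep.alternating_eq_zero (hl : IsSep l) (B : F →+ F →+ F) (halt : ∀ x, B x x = 0)
    (heq : ∀ x y, B (l * x) (l * y) = l * B x y) (x y : F) : B x y = 0 := by
  haveI : Finite (F ≃+* F) := Finite.of_injective _ DFunLike.coe_injective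
  haveI : Fintype (F ≃+* F) := Fintype.ofFinite _
  classical
  obtain ⟨c, hc, hsupp⟩ := exists_coeff_equivariant B heq
  have hdiag : ∀ q, c q ≠ 0 → q = (q.1, q.1) := fun q hq =>
    Prod.ext rfl (hl.pair_eq q.1 q.2 (RingEquiv.refl F) (hsupp q hq)).symm
  by_cases h0 : c = 0
  · rw [hc]; simp [h0]
  obtain ⟨q0, hq0⟩ := Function.ne_iff.mp h0
  set σ := q0.1 with hσ
  have hq : c (σ, σ) ≠ 0 := by rw [← hdiag q0 hq0]; exact hq0
  have hone : ∀ q, q ≠ (σ, σ) → c q = 0 := by
    intro q hne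
    by_contra hab
    have e1 : q.1 l * q.1 l = l := by
      have := hsupp q hab; rwa [hdiag q hab] at this
    have e2 : σ l * σ l = l := hsupp _ hq
    have h3 : q.1 l = σ l := CharTwo.add_eq_zero.mp (mul_self_eq_zero.mp (by
      rw [CharTwo.add_mul_self, e1, e2, CharTwo.add_self_eq_zero]))
    have : q.1 = σ := hl.pair_eq _ _ ((frobeniusEquiv F 2).trans σ) (by
      rw [h3, RingEquiv.trans_apply, frobeniusEquiv_apply, frobenius_def, map_pow, pow_two])
    exact hne (by rw [hdiag q hab, this])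
  have hB : ∀ x y, B x y = c (σ, σ) * (σ x * σ y) := fun x y => by
    rw [hc, Fintype.sum_eq_single (σ, σ) fun q hq' => by rw [hone q hq', zero_mul]]
  have h1 := halt 1
  rw [hB, map_one, mul_one, mul_one] at h1
  exact absurd h1 hq

/-- The pure component of a member of an invariant additive set of maps belongs to the set. -/
theorem IsSep.component_mem (hl : IsSep l) (S : AddSubgroup (F →+ F))
    (hinv : ∀ D ∈ S, ∀ E : F →+ F, (∀ x, E x = l * D (l⁻¹ * x)) → E ∈ S) [Fintype (F ≃+* F)]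
    {D : F →+ F} (hD : D ∈ S) {c : (F ≃+* F) → F} (hc : ∀ x, D x = ∑ σ, c σ * σ x)
    (τ : F ≃+* F) : ∃ E ∈ S, ∀ x, E x = c τ * τ x := by
  classical
  letI : Algebra (ZMod 2) F := ZMod.algebra F 2
  set μ : (F ≃+* F) → F := fun σ => l * σ l⁻¹ with hμ
  have hadd : ∀ g : Polynomial (ZMod 2), ∀ D ∈ S, ∀ c : (F ≃+* F) → F,
      (∀ x, D x = ∑ σ, c σ * σ x) →
        ∃ E ∈ S, ∀ x, E x = ∑ σ, Polynomial.aeval (μ σ) g * c σ * σ x := by
    intro g
    induction g using Polynomial.induction_on' with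
    | add f g hf hg =>
      intro D hD c hc
      obtain ⟨E, hE, hEx⟩ := hf D hD c hc
      obtain ⟨E', hE', hEx'⟩ := hg D hD c hc
      exact ⟨E + E', add_mem hE hE', fun x => by
        rw [AddMonoidHom.add_apply, hEx, hEx', ← Finset.sum_add_distrib]
        exact Finset.sum_congr rfl fun σ _ => by rw [map_add]; ring⟩
    | monomial j r =>
      intro D hD c hc
      rcases (by revert r; decide : r = 0 ∨ r = 1) with rfl | rfl
      · exact ⟨0, zero_mem S, fun x => by simp⟩
      · induction j with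
        | zero => exact ⟨D, hD, fun x => by simp [hc]⟩
        | succ j ih =>
          obtain ⟨E, hE, hEx⟩ := ih
          refine ⟨(AddMonoidHom.mulLeft l).comp (E.comp (AddMonoidHom.mulLeft l⁻¹)),
            hinv E hE _ (fun x => rfl), fun x => ?_⟩
          show l * E (l⁻¹ * x) = _
          rw [hEx, Finset.mul_sum]
          refine Finset.sum_congr rfl fun σ _ => ?_
          simp only [Polynomial.aeval_monomial, map_one, one_mul, map_mul, hμ, pow_succ]
          ring
  set h : Polynomial (ZMod 2) := ∏ σ ∈ Finset.univ.erase τ, minpoly (ZMod 2) (μ σ) with hh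
  have hτ : Polynomial.aeval (μ τ) h ≠ 0 := by
    rw [hh, map_prod, Finset.prod_ne_zero_iff]
    intro σ hσ hz
    obtain ⟨φ, hφ⟩ :=
      minpoly.exists_algEquiv_of_root' (Algebra.IsAlgebraic.isAlgebraic (μ σ)) hz
    exact Finset.ne_of_mem_erase hσ (hl.sep (φ : F ≃+* F) σ τ hφ)
  obtain ⟨E, hE, hEx⟩ := hadd (h ^ (Fintype.card F - 1)) D hD c hc
  refine ⟨E, hE, fun x => ?_⟩
  rw [hEx, Fintype.sum_eq_single τ]
  · rw [map_pow, FiniteField.pow_card_sub_one_eq_one _ hτ, one_mul]
  · intro σ hσ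
    rw [map_pow, show Polynomial.aeval (μ σ) h = 0 by
      rw [hh, map_prod]
      exact Finset.prod_eq_zero (Finset.mem_erase.mpr ⟨hσ, Finset.mem_univ σ⟩) (minpoly.aeval _ _),
      zero_pow (by have := Fintype.one_lt_card (α := F); omega), zero_mul, zero_mul]

/-- Every element of an invariant additive set of maps is a sum of semilinear elements of the set. -/
theorem IsSep.mem_closure_pure (hl : IsSep l) (S : AddSubgroup (F →+ F))
    (hinv : ∀ D ∈ S, ∀ E : F →+ F, (∀ x, E x = l * D (l⁻¹ * x)) → E ∈ S) {D : F →+ F} (hD : D ∈ S) :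
    D ∈ AddSubgroup.closure
      {E | E ∈ S ∧ ∃ (a : F) (τ : F ≃+* F), a ≠ 0 ∧ ∀ x, E x = a * τ x} := by
  classical
  haveI : Finite (F ≃+* F) := Finite.of_injective _ DFunLike.coe_injective
  haveI : Fintype (F ≃+* F) := Fintype.ofFinite _
  obtain ⟨c, hc⟩ := FieldAut.exists_coeff 2 D
  choose E hES hEx using hl.component_mem S hinv hD hc
  have hsum : D = ∑ τ, E τ := AddMonoidHom.ext fun x => by
    rw [hc, AddMonoidHom.finsetSum_apply]
    exact Finset.sum_congr rfl fun τ _ => (hEx τ x).symm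
  rw [hsum]
  refine AddSubgroup.sum_mem _ fun τ _ => ?_
  by_cases h0 : c τ = 0
  · rw [show E τ = 0 from AddMonoidHom.ext fun x => by rw [hEx, h0, zero_mul]; rfl]
    exact zero_mem _
  · exact AddSubgroup.subset_closure ⟨hES τ, c τ, τ, h0, hEx τ⟩

/-- A nonzero set of additive maps invariant under conjugation by `l` contains an injective one. -/
theorem IsSep.exists_injective (hl : IsSep l) (S : AddSubgroup (F →+ F))
    (hinv : ∀ D ∈ S, ∀ E : F →+ F, (∀ x, E x = l * D (l⁻¹ * x)) → E ∈ S)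
    (hne : ∃ D ∈ S, D ≠ 0) : ∃ D ∈ S, Function.Injective D := by
  haveI : Finite (F ≃+* F) := Finite.of_injective _ DFunLike.coe_injective
  haveI : Fintype (F ≃+* F) := Fintype.ofFinite _
  obtain ⟨D, hD, hD0⟩ := hne
  obtain ⟨c, hc⟩ := FieldAut.exists_coeff 2 D
  obtain ⟨τ, hτ⟩ : ∃ τ, c τ ≠ 0 := by
    by_contra hall
    push Not at hall
    exact hD0 (AddMonoidHom.ext fun x => by rw [hc]; simp [hall])
  obtain ⟨E, hE, hEx⟩ := hl.component_mem S hinv hD hc τ
  refine ⟨E, hE, (injective_iff_map_eq_zero E).mpr fun x hx => ?_⟩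
  rw [hEx, mul_eq_zero] at hx
  exact (map_eq_zero_iff τ τ.injective).mp (hx.resolve_left hτ)

end Cfsg.Agent.Lib.Suzuki87
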