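import Cfsg.Agent.Lib.Suzuki87.Exponent

/-!
Squares and commutators are central.
-/

set_option autoImplicit false
set_option linter.unusedSectionVars false
set_option maxHeartbeats 400000

open scoped commutatorElement

namespace Cfsg.Agent.Lib.Suzuki87

open Cfsg.Agent.Lib.SuzukiTwo (Inv Good HasExp exists_hasExp inv_center inv_centralizer exists_layer exists_layer_max mem_of_fixed_coset sq_mul disp disp_map disp_mem disp_mul disp_pow disp_disp)

variable {P : Type*} [Group P] [Finite P] {k : MulAut P}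

theorem squares_central (hk : IsIrrGen k) (h2 : IsPGroup 2 P) (hna : ∃ x y : P, x * y ≠ y * x) :
    (∀ x : P, x * x ∈ Subgroup.center P) ∧ ∀ x p : P, ⁅x, p⁆ ∈ Subgroup.center P := by
  classical
  have hZ2 := center_elementary hk h2 hna
  have hfour : ∀ A : Subgroup P, Good k A → ∀ a ∈ A, a ^ 4 = 1 := fun A hA => pow_four_of_good hk h2 hna hA
  obtain ⟨a0, b0, hab0⟩ := hna
  have hV : ∀ x : P, x * x = 1 → x ∈ Subgroup.center P := fun x => involution_central hk h2
  have hZc : ∀ z ∈ Subgroup.center P, ∀ p : P, z * p = p * z := fun z hz p =>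
    (Subgroup.mem_center_iff.mp hz p).symm
  have htop : Subgroup.center P < ⊤ := lt_top_iff_ne_top.mpr fun h =>
    hab0 (Subgroup.mem_center_iff.mp (h ▸ Subgroup.mem_top b0 : b0 ∈ Subgroup.center P) a0)
  obtain ⟨U, hZU, -, hUn, hUinv, hU, hUmax⟩ :=
    exists_layer_max h2 (C := ⊤) inv_center (fun x _ => Subgroup.mem_top _) htop
  by_cases hUtop : U = ⊤
  · exact ⟨fun x => (hU x (hUtop ▸ Subgroup.mem_top x)).1,
      fun x => (hU x (hUtop ▸ Subgroup.mem_top x)).2⟩
  haveI := hUn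
  have hUd : ∀ u ∈ U, ∀ p : P, ⁅p, u⁆ ∈ Subgroup.center P := fun u hu p => by
    rw [← commutatorElement_inv]; exact inv_mem ((hU u hu).2 p)
  -- squares and commutators centralise `U`
  have hχ : ∀ u ∈ U, ∀ p p' : P, ⁅p * p', u⁆ = ⁅p, u⁆ * ⁅p', u⁆ := by
    intro u hu p p'
    rw [show ⁅p * p', u⁆ = p * ⁅p', u⁆ * p⁻¹ * ⁅p, u⁆ by
      simp only [commutatorElement_def]; group, ← hZc _ (hUd u hu p') p, mul_inv_cancel_right,
      hZc _ (hUd u hu p')]
  have hsqC : ∀ p : P, p * p ∈ Subgroup.centralizer (U : Set P) := fun p =>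
    Subgroup.mem_centralizer_iff.mpr fun u hu =>
      (commutatorElement_eq_one_iff_mul_comm.mp (by rw [hχ u hu, hZ2 _ (hUd u hu p)])).symm
  have hcmC : ∀ p p' : P, ⁅p, p'⁆ ∈ Subgroup.centralizer (U : Set P) := fun p p' =>
    Subgroup.mem_centralizer_iff.mpr fun u hu =>
      (commutatorElement_eq_one_iff_mul_comm.mp (by
        have h1 : ∀ g : P, ⁅g⁻¹, u⁆ = ⁅g, u⁆ := fun g => by
          have h := hχ u hu g⁻¹ g
          rw [inv_mul_cancel, commutatorElement_one_left] at h
          rw [eq_inv_of_mul_eq_one_left h.symm, inv_eq_of_mul_eq_one_right (hZ2 _ (hUd u hu g))]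
        rw [commutatorElement_def p p', hχ u hu, hχ u hu, hχ u hu, h1, h1,
          hZc _ (hUd u hu p) ⁅p', u⁆, mul_assoc ⁅p', u⁆, hZ2 _ (hUd u hu p), mul_one,
          hZ2 _ (hUd u hu p')])).symm
  -- the centre of `U`
  set A0 : Subgroup P := U ⊓ Subgroup.centralizer (U : Set P) with hA0
  have hA0U : A0 ≤ U := inf_le_left
  have hZA : Subgroup.center P ≤ A0 := fun z hz =>
    ⟨hZU.le hz, Subgroup.mem_centralizer_iff.mpr fun u _ => Subgroup.mem_center_iff.mp hz u⟩
  have hcA : ∀ x ∈ A0, ∀ y ∈ A0, x * y = y * x := fun x hx y hy =>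
    (Subgroup.mem_centralizer_iff.mp hx.2 y (hA0U hy)).symm
  have hA0inv : Inv k A0 := fun x hx => ⟨hUinv x hx.1, inv_centralizer hUinv x hx.2⟩
  haveI hA0n : A0.Normal :=
    ⟨fun x hx g => ⟨hUn.conj_mem x hx.1 g, Subgroup.Normal.conj_mem inferInstance x hx.2 g⟩⟩
  have hA0ne : ∃ a ∈ A0, a ∉ Subgroup.center P := by
    by_contra hall
    push Not at hall
    obtain ⟨W, hUW, -, -, -, hW⟩ :=
      exists_layer h2 (C := ⊤) hUinv (fun x _ => Subgroup.mem_top _) (lt_top_iff_ne_top.mpr hUtop)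
    exact hUW.not_ge fun w hw => hUmax w (Subgroup.mem_top w)
      (hall _ ⟨(hW w hw).1, hsqC w⟩) fun p => hall _ ⟨(hW w hw).2 p, hcmC w p⟩
  obtain ⟨a1, ha1, ha1Z⟩ := hA0ne
  have ha1ne : a1 * a1 ≠ 1 := fun h => ha1Z (hV a1 h)
  have hsqA : ∀ a ∈ A0, a * a ∈ Subgroup.center P := fun a ha => (hU a (hA0U ha)).1
  have ha11 : a1 * a1 * (a1 * a1) = 1 := hZ2 _ (hsqA a1 ha1)
  have hsplit : ∀ a ∈ A0, ∀ b ∈ A0, a * b * (a * b) = a * a * (b * b) := fun a ha b hb => by
    calc a * b * (a * b) = a * (b * a) * b := by group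
      _ = a * a * (b * b) := by rw [hcA b hb a ha]; group
  have hroot : ∀ z : P, z * z = 1 → ∃ a ∈ A0, a * a = z := fun z hz =>
    hk.exists_preimage hA0inv (fun a => a * a) hsplit (fun a _ => (map_mul k a a).symm)
      (fun a ha => hZ2 _ (hsqA a ha)) ⟨a1, ha1, ha1ne⟩ hz
  -- `A0` is its own centraliser
  have hCA : ∀ p : P, (∀ a ∈ A0, p * a = a * p) → p ∈ A0 := by
    intro p hp
    have hle : A0 ≤ Subgroup.centralizer (A0 : Set P) := fun x hx =>
      Subgroup.mem_centralizer_iff.mpr fun a ha => hcA a ha x hx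
    by_contra hpA
    have hlt : A0 < Subgroup.centralizer (A0 : Set P) := lt_of_le_of_ne hle fun h => hpA (by
      rw [h]; exact Subgroup.mem_centralizer_iff.mpr fun a ha => (hp a ha).symm)
    obtain ⟨M, hAM, hMC, hMn, hMinv, hM⟩ := exists_layer h2 hA0inv (inv_centralizer hA0inv) hlt
    have hcenM : ∀ x ∈ M, ∀ a ∈ A0, x * a = a * x := fun x hx a ha =>
      (Subgroup.mem_centralizer_iff.mp (hMC hx) a ha).symm
    have hexp : HasExp A0 1 := ⟨fun a ha => by
        rw [show 2 ^ (1 + 1) = 2 * 2 from rfl, pow_mul, pow_two a, pow_two]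
        exact hZ2 _ (hsqA a ha),
      a1, ha1, by rw [pow_one, pow_two]; exact ha1ne⟩
    have hMc := commute_of_extend hk h2 hA0inv hcA (fun x hx => hZA (hV x hx)) hexp le_rfl hMinv
      hAM.le hcenM (fun x hx => (hM x hx).1) (fun x hx y _ => (hM x hx).2 y)
    have h4 := hfour M ⟨hZA.trans hAM.le, hMc, hMn, hMinv⟩
    refine hAM.not_ge fun x hx => ?_
    obtain ⟨b, hb, hbb⟩ := hroot (x * x) (by
      rw [← h4 x hx]; simp only [pow_succ, pow_zero, one_mul, mul_assoc])
    have h1 : x * b⁻¹ * (x * b⁻¹) = 1 := by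
      calc x * b⁻¹ * (x * b⁻¹) = x * (b⁻¹ * x) * b⁻¹ := by group
        _ = x * x * (b * b)⁻¹ := by rw [← hcenM x hx b⁻¹ (inv_mem hb)]; group
        _ = 1 := by rw [hbb, mul_inv_cancel]
    have := mul_mem (hZA (hV _ h1)) hb
    rwa [inv_mul_cancel_right] at this
  -- the field on the centre
  obtain ⟨F, iF, iFin, iC, l, ε, hl, hinj, hadd, -, hrange, hmul⟩ :=
    hk.field _ ha1ne ha11
  have hε0 : ε 0 = 1 := by
    have := hadd 0 0
    rw [add_zero] at this
    exact mul_eq_right.mp this.symm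
  have hε2 : ∀ u, ε u * ε u = 1 := fun u => (hrange _).mpr ⟨u, rfl⟩
  choose L hLA hL2 using fun u : F => hroot (ε u) (hε2 u)
  have hdZ : ∀ p : P, ∀ a ∈ A0, disp p a ∈ Subgroup.center P := fun p a ha => hUd a (hA0U ha) p
  have hcongr : ∀ p : P, ∀ a ∈ A0, ∀ a' ∈ A0, a * a = a' * a' → disp p a = disp p a' := by
    intro p a ha a' ha' h
    have h1 : disp p (a' * a⁻¹) = 1 := by
      simp only [disp]
      rw [← hZc (a' * a⁻¹) (hV _ (by
        rw [hsplit a' ha' _ (inv_mem ha), ← mul_inv_rev, h, mul_inv_cancel])) p]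
      group
    calc disp p a = disp p (a' * a⁻¹) * disp p a := by rw [h1, one_mul]
      _ = disp p a' := by rw [← disp_mul hcA p (mul_mem ha' (inv_mem ha)) ha, inv_mul_cancel_right]
  choose Df hDf using fun (p : P) (u : F) => (hrange _).mp (hZ2 _ (hdZ p _ (hLA u)))
  have hdisp : ∀ p : P, ∀ a ∈ A0, ∀ u : F, a * a = ε u → disp p a = ε (Df p u) := fun p a ha u h => by
    rw [hDf]; exact hcongr p a ha _ (hLA u) (by rw [hL2, h])
  have hDadd : ∀ p, ∀ u v : F, Df p (u + v) = Df p u + Df p v := fun p u v => hinj (by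
    rw [hadd, hDf p u, hDf p v, ← disp_mul hcA p (hLA u) (hLA v),
      hdisp p _ (mul_mem (hLA u) (hLA v)) (u + v) (by rw [hsplit _ (hLA u) _ (hLA v), hL2, hL2, hadd])])
  let D : P → (F →+ F) := fun p => AddMonoidHom.mk' (Df p) (hDadd p)
  have hDp : ∀ p p' : P, D (p * p') = D p + D p' := fun p p' => AddMonoidHom.ext fun u => hinj (by
    show ε (Df (p * p') u) = ε (Df p u + Df p' u)
    rw [hadd, hDf, hDf, hDf]
    exact hχ _ (hA0U (hLA u)) p p')
  have hD1 : D 1 = 0 := by
    have h := hDp 1 1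
    rw [mul_one] at h
    exact left_eq_add.mp h
  have hDinv : ∀ p, D p⁻¹ = D p := fun p => AddMonoidHom.ext fun u => by
    have h := DFunLike.congr_fun (hDp p⁻¹ p) u
    rw [inv_mul_cancel, hD1, AddMonoidHom.zero_apply, AddMonoidHom.add_apply] at h
    exact CharTwo.add_eq_zero.mp h.symm
  have hker : ∀ p, D p = 0 → p ∈ A0 := fun p h => hCA p fun a ha => by
    obtain ⟨u, hu⟩ := (hrange _).mp (hZ2 _ (hsqA a ha))
    have h1 := hdisp p a ha u hu.symm
    rw [show Df p u = 0 from DFunLike.congr_fun h u, hε0] at h1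
    calc p * a = disp p a * a * p := by simp only [disp]; group
      _ = a * p := by rw [h1, one_mul]
  have hsq : ∀ p : P, p * p ∈ A0 := fun p => hker _ (AddMonoidHom.ext fun u => by
    rw [hDp, AddMonoidHom.add_apply, AddMonoidHom.zero_apply, CharTwo.add_self_eq_zero])
  have hcm : ∀ x p : P, ⁅x, p⁆ ∈ A0 := fun x p => hker _ (AddMonoidHom.ext fun u => by
    rw [commutatorElement_def, hDp, hDp, hDp, hDinv, hDinv]
    simp only [AddMonoidHom.add_apply, AddMonoidHom.zero_apply]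
    linear_combination (CharTwo.two_eq_zero (R := F)) * (D x u + D p u))
  -- the squares of squares and of commutators
  choose q' hq' using fun p : P => (hrange _).mp (hZ2 _ (hsqA _ (hsq p)))
  choose β hβ using fun x y : P => (hrange _).mp (hZ2 _ (hsqA _ (hcm x y)))
  have hεne : ∀ u, ε u = 1 → u = 0 := fun u h => hinj (h.trans hε0.symm)
  have hid : ∀ x y : P, D y (q' x) = β y x + D x (β y x) := by
    intro x y
    refine hinj ?_
    have h2' := hdisp y (x * x) (hsq x) _ (hq' x).symm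
    have h3 := hdisp x _ (hcm y x) _ (hβ y x).symm
    show ε (Df y (q' x)) = ε (β y x + Df x (β y x))
    rw [hadd, ← h2', hβ, ← h3]
    set c := ⁅y, x⁆ with hc
    have hz := hdZ x c (hcm y x)
    calc disp y (x * x) = c * (x * c * x⁻¹) := by
          simp only [hc, disp, commutatorElement_def]; group
      _ = c * (disp x c * c) := by simp only [disp]; group
      _ = c * c * disp x c := by rw [hZc _ hz c]; group
  have hid' : ∀ x : P, D x (q' x) = 0 := fun x => hεne _ (by
    show ε (Df x (q' x)) = 1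
    rw [← hdisp x (x * x) (hsq x) _ (hq' x).symm]
    simp only [disp]; group)
  have hβs : ∀ x y, β x y = β y x := fun x y => hinj (by
    rw [hβ, hβ, ← commutatorElement_inv y x, ← mul_inv_rev]
    exact inv_eq_of_mul_eq_one_right (hZ2 _ (hsqA _ (hcm y x))))
  have hβr : ∀ x y y', β x (y * y') = β x y + β x y' := fun x y y' => hinj (by
    rw [hadd, hβ, hβ, hβ]
    set c := ⁅x, y'⁆ with hc
    have hz := hdZ y c (hcm x y')
    have h1 : ⁅x, y * y'⁆ = ⁅x, y⁆ * (disp y c * c) := by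
      simp only [hc, disp, commutatorElement_def]; group
    rw [h1, hsplit _ (hcm x y) _ (mul_mem (hZA hz) (hcm x y')),
      hsplit _ (hZA hz) _ (hcm x y'), hZ2 _ hz, one_mul])
  have hβl : ∀ x x' y, β (x * x') y = β x y + β x' y := fun x x' y => by
    rw [hβs, hβr, hβs y x, hβs y x']
  have hβA : ∀ x, ∀ a ∈ A0, β x a = 0 := fun x a ha => hεne _ (by
    rw [hβ]; exact hZ2 _ (hUd a (hA0U ha) x))
  have hq'm : ∀ x y, q' (x * y) = q' x + q' y + β x⁻¹ y := fun x y => hinj (by
    rw [hq', hadd, hadd, hq', hq', hβ, sq_mul (x := x) (y := y), hsplit _ (mul_mem (hsq x) (hcm _ _)) _ (hsq y),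
      hsplit _ (hsq x) _ (hcm _ _), mul_assoc, mul_assoc (x * x * (x * x)),
      hZc _ (hsqA _ (hsq y))])
  have hq'A : ∀ a ∈ A0, q' a = 0 := fun a ha => hεne _ (by
    rw [hq']; exact hZ2 _ (hsqA a ha))
  -- the additive set of displacements
  let S : AddSubgroup (F →+ F) :=
    { carrier := {E | ∃ p, D p = E}
      add_mem' := fun {E E'} ⟨p, hp⟩ ⟨p', hp'⟩ => ⟨p * p', by rw [hDp, hp, hp']⟩
      zero_mem' := ⟨1, hD1⟩
      neg_mem' := fun {E} ⟨p, hp⟩ => ⟨p, AddMonoidHom.ext fun u => by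
        rw [hp, AddMonoidHom.neg_apply, CharTwo.neg_eq]⟩ }
  have hl0 := hl.ne_zero
  have hkD : ∀ p u, D (k p) (l * u) = l * D p u := fun p u => hinj (by
    show ε (Df (k p) (l * u)) = ε (l * Df p u)
    rw [hmul, hDf p u, disp_map, hdisp (k p) _ (hA0inv _ (hLA u)) (l * u)
      (by rw [← map_mul, hL2, hmul])])
  have hSinv : ∀ E ∈ S, ∀ E' : F →+ F, (∀ x, E' x = l * E (l⁻¹ * x)) → E' ∈ S := by
    rintro E ⟨p, rfl⟩ E' hE'
    exact ⟨k p, AddMonoidHom.ext fun x => by rw [hE', ← hkD, mul_inv_cancel_left₀ hl0]⟩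
  have hgen : ∀ H : Subgroup P, A0 ≤ H →
      (∀ x, (∃ (a : F) (τ : F ≃+* F), a ≠ 0 ∧ ∀ u, D x u = a * τ u) → x ∈ H) → ∀ p, p ∈ H := by
    intro H hAH hH p
    have hmem := hl.mem_closure_pure S hSinv (D := D p) ⟨p, rfl⟩
    have key : ∀ E0 ∈ AddSubgroup.closure
        {E | E ∈ S ∧ ∃ (a : F) (τ : F ≃+* F), a ≠ 0 ∧ ∀ x, E x = a * τ x}, ∃ h ∈ H, D h = E0 := by
      intro E0 hE0
      induction hE0 using AddSubgroup.closure_induction with
      | mem E hE =>
        obtain ⟨⟨x, rfl⟩, hpure⟩ := hE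
        exact ⟨x, hH x hpure, rfl⟩
      | zero => exact ⟨1, one_mem H, hD1⟩
      | add E E' _ _ ih ih' =>
        obtain ⟨h, hh, rfl⟩ := ih
        obtain ⟨h', hh', rfl⟩ := ih'
        exact ⟨h * h', mul_mem hh hh', hDp h h'⟩
      | neg E _ ih =>
        obtain ⟨h, hh, rfl⟩ := ih
        exact ⟨h, hh, AddMonoidHom.ext fun u => by rw [AddMonoidHom.neg_apply, CharTwo.neg_eq]⟩
    obtain ⟨h, hh, he⟩ := key _ hmem
    have h1 : p * h⁻¹ ∈ A0 := hker _ (AddMonoidHom.ext fun u => by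
      rw [hDp, hDinv, he, AddMonoidHom.add_apply, AddMonoidHom.zero_apply, CharTwo.add_self_eq_zero])
    have h2' := mul_mem (hAH h1) hh
    rwa [inv_mul_cancel_right] at h2'
  -- semiregularity of the components
  have hli : ∀ j : ℕ, ε (l ^ j * 1) = (k ^ j) (ε 1) := by
    intro j
    induction j with
    | zero => simp
    | succ j ih => rw [pow_succ', mul_assoc, hmul, ih, pow_succ', MulAut.mul_apply]
  have hsemi : ∀ x, ∀ (a : F) (τ : F ≃+* F), a ≠ 0 → (∀ u, D x u = a * τ u) →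
      (∀ i : ℕ, (l * τ l⁻¹) ^ i = 1 → l ^ i = 1) ∧
        ∀ i : ℕ, ∀ u, D ((k ^ i) x) u = (l * τ l⁻¹) ^ i * a * τ u := by
    intro x a τ ha hx
    have hpow : ∀ i : ℕ, ∀ u, D ((k ^ i) x) u = (l * τ l⁻¹) ^ i * a * τ u := by
      intro i
      induction i with
      | zero => intro u; rw [pow_zero, pow_zero, MulAut.one_apply, hx, one_mul]
      | succ i ih =>
        intro u
        rw [pow_succ', MulAut.mul_apply, ← mul_inv_cancel_left₀ hl0 u, hkD, ih,
          mul_inv_cancel_left₀ hl0 u, map_mul]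
        ring
    refine ⟨fun i hi => ?_, hpow⟩
    by_contra hne
    have hfix : x⁻¹ * (k ^ i) x ∈ A0 := hker _ (AddMonoidHom.ext fun u => by
      rw [hDp, hDinv, AddMonoidHom.add_apply, AddMonoidHom.zero_apply, hpow, hi,
        one_mul, hx, CharTwo.add_self_eq_zero])
    have hmove : (k ^ i) (ε 1) ≠ ε 1 := fun h => hne (by
      have h1 := hinj ((hli i).trans h)
      rwa [mul_one] at h1)
    have hxA := mem_of_fixed_coset (fun y => fpf_of_moves hk h2 (hε2 1) hmove) (N := A0)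
      (fun y hy => hA0inv.pow i y hy) hfix
    have h0 : D x 1 = 0 := hinj (by
      show ε (Df x 1) = ε 0
      rw [← hdisp x (L 1) (hLA 1) 1 (hL2 1), hε0]
      simp only [disp]
      rw [hcA x hxA _ (hLA 1)]; group)
    rw [hx, map_one, mul_one] at h0
    exact ha h0
  -- pure elements
  have hq'pure : ∀ x, (∃ (a : F) (τ : F ≃+* F), a ≠ 0 ∧ ∀ u, D x u = a * τ u) → q' x = 0 := by
    rintro x ⟨a, τ, ha, hx⟩
    have h := hid' x
    rw [hx, mul_eq_zero] at h
    exact (map_eq_zero_iff τ τ.injective).mp (h.resolve_left ha)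
  have hβpure : ∀ x y, (∃ (a : F) (τ : F ≃+* F), a ≠ 0 ∧ ∀ u, D x u = a * τ u) →
      (∃ (a : F) (τ : F ≃+* F), a ≠ 0 ∧ ∀ u, D y u = a * τ u) → β x y = 0 := by
    rintro x y ⟨a, τ, ha, hx⟩ ⟨a', τ', ha', hy⟩
    obtain ⟨hμx, -⟩ := hsemi x a τ ha hx
    obtain ⟨hμy, -⟩ := hsemi y a' τ' ha' hy
    have hall : ∀ c : F, ∃ z, ∀ u, D z u = c * τ' u := by
      let W : AddSubgroup F :=
        { carrier := {c | ∃ z, ∀ u, D z u = c * τ' u}
          add_mem' := fun {c c'} ⟨z, hz⟩ ⟨z', hz'⟩ => ⟨z * z', fun u => by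
            rw [hDp, AddMonoidHom.add_apply, hz, hz', add_mul]⟩
          zero_mem' := ⟨1, fun u => by rw [hD1, zero_mul]; rfl⟩
          neg_mem' := fun {c} hc => by rw [CharTwo.neg_eq]; exact hc }
      have htop : W = ⊤ := hl.span_weight hμy
        (fun c ⟨z, hz⟩ => ⟨k z, fun u => by
          rw [← mul_inv_cancel_left₀ hl0 u, hkD, hz, mul_inv_cancel_left₀ hl0 u, map_mul]
          ring⟩)
        ⟨a', ⟨y, hy⟩, ha'⟩
      exact fun c => (htop ▸ AddSubgroup.mem_top c : c ∈ W)
    choose Y hY using hall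
    have hwd : ∀ z z', D z = D z' → β x z = β x z' := fun z z' h => by
      have h1 : z⁻¹ * z' ∈ A0 := hker _ (AddMonoidHom.ext fun u => by
        rw [hDp, hDinv, h, AddMonoidHom.add_apply, AddMonoidHom.zero_apply, CharTwo.add_self_eq_zero])
      have h2' := hβr x z (z⁻¹ * z')
      rw [mul_inv_cancel_left, hβA x _ h1, add_zero] at h2'
      exact h2'.symm
    have hYadd : ∀ c c', β x (Y (c + c')) = β x (Y c) + β x (Y c') := fun c c' => by
      rw [← hβr]
      refine hwd _ _ (AddMonoidHom.ext fun u => ?_)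
      rw [hY, hDp, AddMonoidHom.add_apply, hY, hY, add_mul]
    let hh : F →+ F := AddMonoidHom.mk' (fun c => β x (Y c)) hYadd
    have hsol : ∀ c, hh c ≠ 0 → c * τ' (hh c) = hh c ∧ a * τ (hh c) = hh c := by
      intro c hc
      have hc0 : c ≠ 0 := fun h => hc (by rw [h, map_zero])
      have hqY : q' (Y c) = 0 := hq'pure _ ⟨c, τ', hc0, hY c⟩
      have hqx : q' x = 0 := hq'pure _ ⟨a, τ, ha, hx⟩
      constructor
      · have h := hid (Y c) x
        rw [hqY, map_zero, hY] at h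
        exact (CharTwo.add_eq_zero.mp h.symm).symm
      · have h := hid x (Y c)
        rw [hqx, map_zero, hx, hβs] at h
        exact (CharTwo.add_eq_zero.mp h.symm).symm
    have hzero : ∀ c, hh c = 0 := by
      by_contra hnz
      push Not at hnz
      obtain ⟨c1, hc1⟩ := hnz
      have hinj' : Function.Injective hh := by
        refine (injective_iff_map_eq_zero hh).mpr fun c hc => ?_
        by_contra hc0
        have e : hh (c + c1) = hh c1 := by rw [map_add, hc, zero_add]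
        have h1 := (hsol (c + c1) (by rw [e]; exact hc1)).1
        have h2' := (hsol c1 hc1).1
        rw [e] at h1
        exact hc0 (add_eq_right.mp (mul_right_cancel₀
          (show τ' (hh c1) ≠ 0 by simpa using hc1) (h1.trans h2'.symm)))
      have hfix : ∀ u, a * τ u = u := by
        intro u
        obtain ⟨c, rfl⟩ := (Finite.injective_iff_surjective.mp hinj') u
        by_cases hc : hh c = 0
        · rw [hc, map_zero, mul_zero]
        · exact (hsol c hc).2
      have ha1' : a = 1 := by simpa using hfix 1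
      have hτ : τ l⁻¹ = l⁻¹ := by simpa [ha1'] using hfix l⁻¹
      exact hl.ne_one (by simpa using hμx 1 (by rw [pow_one, hτ, mul_inv_cancel₀ hl0]))
    have hyY : D y = D (Y a') := AddMonoidHom.ext fun u => by rw [hy, hY]
    rw [hwd _ _ hyY]
    exact hzero a'
  -- conclusion
  have hβ0 : ∀ x y, β x y = 0 := by
    have hβone : ∀ x, β x 1 = 0 := fun x => hβA x 1 (one_mem A0)
    have hβinv : ∀ x y, β x y⁻¹ = β x y := fun x y => by
      have h := hβr x y⁻¹ y
      rw [inv_mul_cancel, hβone] at h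
      exact CharTwo.add_eq_zero.mp h.symm
    have h1 : ∀ x, (∃ (a : F) (τ : F ≃+* F), a ≠ 0 ∧ ∀ u, D x u = a * τ u) → ∀ y, β x y = 0 :=
      fun x hx => hgen
        { carrier := {y | β x y = 0}
          mul_mem' := fun {y y'} (hy : β x y = 0) (hy' : β x y' = 0) =>
            show β x (y * y') = 0 by rw [hβr, hy, hy', add_zero]
          one_mem' := hβone x
          inv_mem' := fun {y} (hy : β x y = 0) => show β x y⁻¹ = 0 by rw [hβinv]; exact hy }
        (fun a ha => hβA x a ha) fun y hy => hβpure x y hx hy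
    intro x y
    refine hgen
      { carrier := {x | β x y = 0}
        mul_mem' := fun {x x'} (hx : β x y = 0) (hx' : β x' y = 0) =>
          show β (x * x') y = 0 by rw [hβl, hx, hx', add_zero]
        one_mem' := show β 1 y = 0 by rw [hβs, hβone]
        inv_mem' := fun {x} (hx : β x y = 0) => show β x⁻¹ y = 0 by
          rw [hβs, hβinv, ← hβs]; exact hx }
      (fun a ha => show β a y = 0 by rw [hβs]; exact hβA y a ha) (fun z hz => h1 z hz y) x
  have hq0 : ∀ x, q' x = 0 := hgen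
    { carrier := {x | q' x = 0}
      mul_mem' := fun {x y} (hx : q' x = 0) (hy : q' y = 0) =>
        show q' (x * y) = 0 by rw [hq'm, hx, hy, hβ0, add_zero, add_zero]
      one_mem' := hq'A 1 (one_mem A0)
      inv_mem' := fun {x} (hx : q' x = 0) => show q' x⁻¹ = 0 by
        have h := hq'm x⁻¹ x
        rw [inv_mul_cancel, hq'A 1 (one_mem A0), hx, hβ0, add_zero, add_zero] at h
        exact h.symm }
    hq'A hq'pure
  exact ⟨fun x => hV _ (by rw [← hq', hq0, hε0]), fun x p => hV _ (by rw [← hβ, hβ0, hε0])⟩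

end Cfsg.Agent.Lib.Suzuki87
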