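import Cfsg.Agent.Lib.Suzuki87.Second
import Cfsg.Agent.S3360

/-!
A solvable group of automorphisms transitive on the involutions contains an automorphism that
multiplies them by an element with separated weights.
-/

set_option autoImplicit false
set_option linter.unusedSectionVars false

namespace Cfsg.Agent.Lib.Suzuki87

open Cfsg.Agent.Lib.SuzukiTwo (inv_center exists_involution_central exists_exponent exists_card_eq_two_pow)

/-- The automorphism group of a finite field of order `2 ^ n` has order dividing `n`. -/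
theorem card_aut_dvd {F : Type*} [Field F] [Fintype F] [CharP F 2] {n : ℕ}
    (hn : Fintype.card F = 2 ^ n) : Nat.card (F ≃+* F) ∣ n := by
  haveI : Finite (F ≃+* F) := Finite.of_injective _ DFunLike.coe_injective
  set fr : F ≃+* F := frobeniusEquiv F 2 with hfr
  have hpow : ∀ a : ℕ, ∀ x, (fr ^ a) x = x ^ (2 ^ a) := by
    intro a
    induction a with
    | zero => intro x; simp
    | succ a ih =>
      intro x
      rw [pow_succ', RingAut.mul_apply, ih, hfr, frobeniusEquiv_apply, frobenius_def, ← pow_mul,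
        ← pow_succ]
  have hall : ∀ σ : F ≃+* F, σ ∈ Subgroup.zpowers fr := fun σ => by
    obtain ⟨a, -, ha⟩ := exists_exponent hn σ
    exact ⟨a, RingEquiv.ext fun x => by simp [hpow, ha]⟩
  rw [← orderOf_eq_card_of_forall_mem_zpowers hall]
  refine orderOf_dvd_of_pow_eq_one (RingEquiv.ext fun x => ?_)
  rw [hpow, ← hn, FiniteField.pow_card]
  rfl

/-- A transitive group of semilinear maps contains a multiplication with separated weights. -/
theorem exists_mul_isSep {V : Type*} [AddCommGroup V] [Module (ZMod 2) V] [Finite V]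
    (R : Subgroup (V ≃ₗ[ZMod 2] V)) {F : Type} [Field F] [Fintype F] (hF : 3 ≤ Nat.card V)
    (e : V ≃+ F) (hsl : ∀ g : R, ∃ (a : F) (σ : F ≃+* F), ∀ v : V, e ((g : V ≃ₗ[ZMod 2] V) v) = a * σ (e v))
    (htrans : ∀ v w : V, v ≠ 0 → w ≠ 0 → ∃ g ∈ R, g v = w) :
    ∃ (_ : CharP F 2) (l : F), IsSep l ∧ ∃ g ∈ R, ∀ v, e (g v) = l * e v := by
  classical
  haveI hchar : CharP F 2 := by
    refine CharTwo.of_one_ne_zero_of_two_eq_zero one_ne_zero ?_
    have h2 : ∀ v : V, v + v = 0 := fun v => by
      rw [← two_smul (ZMod 2) v, show (2 : ZMod 2) = 0 from rfl, zero_smul]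
    have := congrArg e (h2 (e.symm 1))
    rw [map_add, map_zero, AddEquiv.apply_symm_apply] at this
    rw [← one_add_one_eq_two]; exact this
  haveI : Finite (V ≃ₗ[ZMod 2] V) := Finite.of_injective _ DFunLike.coe_injective
  haveI : Finite (F ≃+* F) := Finite.of_injective _ DFunLike.coe_injective
  obtain ⟨n, -, hn⟩ := exists_card_eq_two_pow (F := F)
  have hcardV : Nat.card V = 2 ^ n := by
    rw [Nat.card_congr e.toEquiv, Nat.card_eq_fintype_card, hn]
  have hn2 : 2 ≤ n := by
    by_contra h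
    have : (2 : ℕ) ^ n ≤ 2 ^ 1 := Nat.pow_le_pow_right (by norm_num) (by omega)
    omega
  choose a σ haσ using hsl
  have hone : ∀ g : R, e ((g : V ≃ₗ[ZMod 2] V) (e.symm 1)) = a g := fun g => by
    rw [haσ, AddEquiv.apply_symm_apply, map_one, mul_one]
  have ha0 : ∀ g, a g ≠ 0 := fun g h => by
    have h1 := hone g
    rw [h, map_eq_zero_iff e e.injective, LinearEquiv.map_eq_zero_iff,
      map_eq_zero_iff e.symm e.symm.injective] at h1
    exact one_ne_zero h1
  have huniq : ∀ g : R, ∀ (b : F) (τ : F ≃+* F), (∀ v, e ((g : V ≃ₗ[ZMod 2] V) v) = b * τ (e v)) →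
      b = a g ∧ τ = σ g := by
    intro g b τ h
    have hb : b = a g := by
      rw [← hone, h, AddEquiv.apply_symm_apply, map_one, mul_one]
    refine ⟨hb, RingEquiv.ext fun x => ?_⟩
    have := (h (e.symm x)).symm.trans (haσ g (e.symm x))
    rw [AddEquiv.apply_symm_apply, hb] at this
    exact mul_left_cancel₀ (ha0 g) this
  have hmul : ∀ g h : R, a (g * h) = a g * σ g (a h) ∧ σ (g * h) = σ g * σ h := by
    intro g h
    obtain ⟨h1, h2⟩ := huniq (g * h) (a g * σ g (a h)) (σ g * σ h) fun v => by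
      rw [Subgroup.coe_mul, LinearEquiv.mul_apply, haσ, haσ, map_mul, RingAut.mul_apply, mul_assoc]
    exact ⟨h1.symm, h2.symm⟩
  let θ : R →* (F ≃+* F) := MonoidHom.mk' σ fun g h => (hmul g h).2
  let χ : θ.ker →* Fˣ := MonoidHom.mk' (fun g => Units.mk0 (a g.1) (ha0 g.1)) fun g h =>
    Units.ext (by
      show a (g.1 * h.1) = a g.1 * a h.1
      rw [(hmul g.1 h.1).1, show σ g.1 = 1 from g.2]
      rfl)
  have hχ : Function.Injective χ := fun g h hgh => by
    have h1 : a g.1 = a h.1 := congrArg Units.val hgh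
    refine Subtype.ext (Subtype.ext (LinearEquiv.ext fun v => e.injective ?_))
    rw [haσ, haσ, h1, show σ g.1 = 1 from g.2, show σ h.1 = 1 from h.2]
  haveI : IsCyclic θ.ker := isCyclic_of_injective χ hχ
  obtain ⟨g, hgen⟩ := IsCyclic.exists_generator (α := θ.ker)
  have hm : orderOf (χ g : F) = Nat.card θ.ker := by
    rw [orderOf_units, orderOf_injective χ hχ, orderOf_eq_card_of_forall_mem_zpowers hgen]
  -- the orbit of a nonzero vector
  have hv0 : e.symm 1 ≠ 0 := fun h => one_ne_zero (e.symm.map_eq_zero_iff.mp h)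
  have horb : MulAction.orbit R (e.symm 1) = ({0} : Set V)ᶜ := by
    ext v
    constructor
    · rintro ⟨r, rfl⟩ h
      exact hv0 ((LinearEquiv.map_eq_zero_iff (r : V ≃ₗ[ZMod 2] V)).mp h)
    · intro hv
      obtain ⟨r, hr, hrv⟩ := htrans _ v hv0 hv
      exact ⟨⟨r, hr⟩, hrv⟩
  have hMR : 2 ^ n - 1 ∣ Nat.card R := by
    have h1 := MulAction.index_stabilizer R (e.symm 1)
    rw [horb, Set.ncard_compl, Set.ncard_singleton, hcardV] at h1
    exact h1 ▸ Subgroup.index_dvd_card _
  rw [Subgroup.card_eq_card_quotient_mul_card_subgroup θ.ker,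
    Nat.card_congr (QuotientGroup.quotientKerEquivRange θ).toEquiv] at hMR
  have hr : Nat.card θ.range ∣ n := (Subgroup.card_subgroup_dvd_card θ.range).trans (card_aut_dvd hn)
  have hmM : Nat.card θ.ker ∣ 2 ^ n - 1 := by
    rw [← hn, ← Fintype.card_units, ← Nat.card_eq_fintype_card]
    exact Subgroup.card_dvd_of_injective χ hχ
  obtain ⟨d, hd⟩ := hmM
  have hdn : d ∣ n := by
    refine dvd_trans ?_ hr
    rw [hd, mul_comm (Nat.card θ.range)] at hMR
    exact Nat.dvd_of_mul_dvd_mul_left Nat.card_pos hMR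
  refine ⟨hchar, (χ g : F), isSep_of_order hn hn2 hdn (by rw [hm, hd, mul_comm]),
    (g.1 : R), (g.1 : R).2, fun v => ?_⟩
  rw [haσ, show σ g.1 = 1 from g.2]
  rfl

/-- The automorphism needed for Higman's theorem. -/
theorem exists_isIrrGen {P : Type*} [Group P] [Finite P] (h2 : IsPGroup 2 P)
    (htwo : ∃ x y : P, x ≠ y ∧ x ≠ 1 ∧ x * x = 1 ∧ y ≠ 1 ∧ y * y = 1) (Y : Subgroup (MulAut P))
    (hsol : Group.IsSolvable Y)
    (htrans : ∀ x y : P, x ≠ 1 → x * x = 1 → y ≠ 1 → y * y = 1 → ∃ a ∈ Y, a x = y) :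
    ∃ k : MulAut P, IsIrrGen k := by
  classical
  obtain ⟨x0, y0, hxy, hx1, hx, hy1, hy⟩ := htwo
  haveI : Nontrivial P := ⟨x0, 1, hx1⟩
  obtain ⟨c0, hc0, hc1, hcc⟩ := exists_involution_central h2
  have hcen : ∀ x : P, x * x = 1 → x ∈ Subgroup.center P := fun x hx => by
    by_cases h1 : x = 1
    · rw [h1]; exact one_mem _
    obtain ⟨b, -, rfl⟩ := htrans c0 x hc1 hcc h1 hx
    exact inv_center (k := b) c0 hc0
  let V : Subgroup P :=
    { carrier := {x | x * x = 1}
      mul_mem' := fun {x y} hx hy => by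
        show x * y * (x * y) = 1
        calc x * y * (x * y) = x * (y * x) * y := by group
          _ = x * x * (y * y) := by
            rw [(Subgroup.mem_center_iff.mp (hcen x hx) y)]; group
          _ = 1 := by rw [hx, hy, one_mul]
      one_mem' := one_mul 1
      inv_mem' := fun {x} hx => by
        show x⁻¹ * x⁻¹ = 1
        rw [← mul_inv_rev, hx, inv_one] }
  letI : CommGroup V := { (inferInstance : Group V) with
    mul_comm := fun x y => Subtype.ext (Subgroup.mem_center_iff.mp (hcen y y.2) x) }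
  letI : Module (ZMod 2) (Additive V) := AddCommGroup.zmodModule (fun x => by
    rw [two_nsmul]
    exact congrArg Additive.ofMul (Subtype.ext (Additive.toMul x).2 : Additive.toMul x * Additive.toMul x = 1))
  let act : MulAut P → V →* V := fun b =>
    { toFun := fun x => ⟨b x, by
        show b x * b x = 1
        rw [← map_mul, x.2, map_one]⟩
      map_one' := Subtype.ext (map_one b)
      map_mul' := fun x y => Subtype.ext (map_mul b _ _) }
  let lin : MulAut P → (Additive V →ₗ[ZMod 2] Additive V) := fun b =>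
    (MonoidHom.toAdditive (act b)).toZModLinearMap 2
  have hlin : ∀ b c : MulAut P, ∀ v, lin b (lin c v) = lin (b * c) v := fun b c v => rfl
  have hlin1 : ∀ v, lin 1 v = v := fun v => rfl
  let ρ : MulAut P →* (Additive V ≃ₗ[ZMod 2] Additive V) := MonoidHom.mk'
    (fun b => LinearEquiv.ofLinear (lin b) (lin b⁻¹)
      (LinearMap.ext fun v => by
        rw [LinearMap.comp_apply, hlin, mul_inv_cancel, hlin1]; rfl)
      (LinearMap.ext fun v => by
        rw [LinearMap.comp_apply, hlin, inv_mul_cancel, hlin1]; rfl))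
    (fun b c => LinearEquiv.ext fun v => rfl)
  have hρ : ∀ (b : MulAut P) (v : Additive V), ((Additive.toMul (ρ b v) : V) : P) = b (Additive.toMul v : V) :=
    fun b v => rfl
  have hinjV : ∀ v w : Additive V, ((Additive.toMul v : V) : P) = (Additive.toMul w : V) → v = w :=
    fun v w h => Additive.toMul.injective (Subtype.ext h)
  set R := Y.map ρ with hR
  have hRtrans : ∀ v w : Additive V, v ≠ 0 → w ≠ 0 → ∃ g ∈ R, g v = w := by
    intro v w hv hw
    obtain ⟨b, hb, hbv⟩ := htrans _ _ (fun h => hv (hinjV v 0 h)) (Additive.toMul v).2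
      (fun h => hw (hinjV w 0 h)) (Additive.toMul w).2
    exact ⟨ρ b, ⟨b, hb, rfl⟩, hinjV _ _ ((hρ b v).trans hbv)⟩
  haveI : Finite (MulAut P) := Finite.of_injective _ DFunLike.coe_injective
  haveI := hsol
  have hRsol : Group.IsSolvable R := Group.isSolvable_of_surjective (f := ρ.subgroupMap Y) (ρ.subgroupMap_surjective Y)
  haveI : Nontrivial (Additive V) :=
    ⟨Additive.ofMul ⟨x0, hx⟩, 0, fun h => hx1 (congrArg (fun u : Additive V => ((Additive.toMul u : V) : P)) h)⟩
  haveI : Finite (Additive V ≃ₗ[ZMod 2] Additive V) := Finite.of_injective _ DFunLike.coe_injective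
  have hcard3 : 3 ≤ Nat.card (Additive V) := by
    haveI : Fintype (Additive V) := Fintype.ofFinite _
    rw [Nat.card_eq_fintype_card]
    refine Fintype.two_lt_card_iff.mpr ⟨0, Additive.ofMul ⟨x0, hx⟩, Additive.ofMul ⟨y0, hy⟩,
      fun h => hx1 (congrArg (fun u : Additive V => ((Additive.toMul u : V) : P)) h).symm,
      fun h => hy1 (congrArg (fun u : Additive V => ((Additive.toMul u : V) : P)) h).symm,
      fun h => hxy (congrArg (fun u : Additive V => ((Additive.toMul u : V) : P)) h)⟩
  have hsl : ∃ (F : Type) (_ : Field F) (_ : Fintype F) (e : Additive V ≃+ F),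
      ∀ g : R, ∃ (a : F) (σ : F ≃+* F), ∀ v, e ((g : Additive V ≃ₗ[ZMod 2] Additive V) v) = a * σ (e v) := by
    refine (Cfsg.Agent.S3360.result 2 hRsol R.subtype Subtype.val_injective
      (fun v w hv hw => ?_)).resolve_right ?_
    · obtain ⟨g, hg, hgv⟩ := hRtrans v w hv hw
      exact ⟨⟨g, hg⟩, hgv⟩
    · intro hmem
      obtain ⟨j, hj⟩ := IsPGroup.iff_card.mp (h2.to_subgroup V)
      have hodd : ¬ 2 ∣ Nat.card (Additive V) := by
        simp only [Set.mem_insert_iff, Set.mem_singleton_iff] at hmem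
        omega
      rw [show Nat.card (Additive V) = Nat.card V from rfl] at hodd hcard3
      rcases Nat.eq_zero_or_pos j with rfl | hj0
      · rw [hj, pow_zero] at hcard3; omega
      · exact hodd (hj ▸ dvd_pow_self 2 hj0.ne')
  obtain ⟨F, iF, iFin, e, hsl⟩ := hsl
  obtain ⟨hchar, l, hl, _, ⟨b, -, rfl⟩, hb⟩ := exists_mul_isSep R hcard3 e hsl hRtrans
  refine ⟨b, ⟨hcen, fun z hz hz2 => ?_⟩⟩
  set c := e (Additive.ofMul ⟨z, hz2⟩) with hcdef
  have hc0 : c ≠ 0 := fun h => hz (by
    have := e.map_eq_zero_iff.mp h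
    exact congrArg (fun u : Additive V => ((Additive.toMul u : V) : P)) this)
  refine ⟨F, iF, iFin, hchar, l, fun u => ((Additive.toMul (e.symm (u * c)) : V) : P), hl,
    fun u u' h => mul_right_cancel₀ hc0 (e.symm.injective (hinjV _ _ h)), fun u u' => ?_, ?_, ?_, ?_⟩
  · show ((Additive.toMul (e.symm ((u + u') * c)) : V) : P) = _
    rw [add_mul, map_add]
    rfl
  · show ((Additive.toMul (e.symm (1 * c)) : V) : P) = _
    rw [one_mul, hcdef, AddEquiv.symm_apply_apply]
    rfl
  · refine fun v => ⟨fun hv => ⟨e (Additive.ofMul ⟨v, hv⟩) * c⁻¹, ?_⟩, ?_⟩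
    · show ((Additive.toMul (e.symm _) : V) : P) = v
      rw [inv_mul_cancel_right₀ hc0, AddEquiv.symm_apply_apply]
      rfl
    · rintro ⟨u, rfl⟩
      exact (Additive.toMul (e.symm (u * c))).2
  · intro u
    show ((Additive.toMul (e.symm (l * u * c)) : V) : P) = b (Additive.toMul (e.symm (u * c)) : V)
    rw [← hρ]
    congr 2
    rw [AddEquiv.symm_apply_eq, hb, AddEquiv.apply_symm_apply, mul_assoc]

end Cfsg.Agent.Lib.Suzuki87
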